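import Cfsg.Agent.H144.War.Final
import Cfsg.Agent.H130.War.Base
import Cfsg.Agent.H140.War.Num
import Cfsg.Agent.H140.War.Refl
import Cfsg.Agent.H143.War.Xi
import Cfsg.Agent.H143.War.Mix
import Cfsg.Agent.H557.War.JCorner
import Cfsg.Agent.H950.War.JBlock
import Cfsg.Agent.H144.AH.Base
import Cfsg.Agent.LieClassical.SympCount

/-!
# The row `PSp_2m(q)` of S2453

`ss_psp` : `SS p e (PSp m F)`;  `kl_psp` : the row.
-/

set_option autoImplicit false

namespace Cfsg.Agent.H144.War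

open Cfsg Cfsg.Agent.H130.War Cfsg.Agent.H955 Cfsg.Agent.ClassicalGeometry.SympBasic

theorem coprime_orderOf {G : Type*} [Group G] {x : G} {N p : ℕ} (h : x ^ N = 1) (hN : N.Coprime p) :
    (orderOf x).Coprime p := Nat.Coprime.coprime_dvd_left (orderOf_dvd_of_pow_eq_one h) hN

theorem ss_psp {F : Type} [Field F] [Finite F] {m p e : ℕ} [CharP F p] (hm : 2 ≤ m) (he : 1 ≤ e)
    (hnum : e * (Nat.card F ^ (m / 2) + 1) < Nat.card F ^ m - 1)
    (hnum' : (2 : F) ≠ 0 → Even m → 3 ≤ m / 2 → e * (Nat.card F ^ (m / 2 / 2) + 1) < Nat.card F ^ (m / 2) - 1) :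
    SS p e (PSp m F) := by
  have hS := isSp_sympBilin m F
  have hV : Module.finrank F (Fin m ⊕ Fin m → F) = 2 * m := by
    rw [Module.finrank_fintype_fun_eq_card, Fintype.card_sum, Fintype.card_fin]
    ring
  refine SS.of_lift (f := AH.pj m F) fun t => ?_
  obtain ⟨g, rfl⟩ := AH.pj_surj t
  have key : ∀ g' : AH.Gm m F, Pw (sympBilin m F) p e g'.1 → ∃ x y : AH.Gm m F, g' = x ^ e * y ^ e ∧
      (orderOf x).Coprime p ∧ (orderOf y).Coprime p := by
    rintro g' ⟨x, y, N, hx, hy, hN, hxN, hyN, hxy⟩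
    refine ⟨⟨x, hx⟩, ⟨y, hy⟩, Subtype.ext hxy, coprime_orderOf (N := N) (Subtype.ext hxN) hN,
      coprime_orderOf (N := N) (Subtype.ext hyN) hN⟩
  rcases pw_or Cfsg.Agent.H140.War.reflection Cfsg.Agent.H557.War.jcorner Cfsg.Agent.H950.War.JB.jBlock
    Cfsg.Agent.H143.War.Mix.mixCore Cfsg.Agent.H143.War.existsXi (B := sympBilin m F) hS.alt hS.nd (p := p) hm he hnum
    hnum' hV (g := g.1) g.2 with h | h
  · exact ⟨g, rfl, key g h⟩
  · refine ⟨⟨ng g.1, ng_iso g.2⟩, ?_, key _ h⟩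
    have h1 : AH.pj m F (⟨ng g.1, ng_iso g.2⟩ * g⁻¹) = 1 := by
      rw [AH.pj_eq_one_iff]
      refine ⟨-1, fun v => ?_⟩
      rw [neg_one_smul]
      change ng g.1 (g.1⁻¹ v) = -v
      rw [ng_apply, app_inv]
    rw [map_mul, map_inv, mul_inv_eq_one] at h1
    exact h1

theorem card_psp_le {F : Type} [Field F] [Fintype F] (m : ℕ) :
    Nat.card (PSp m F) ≤ Nat.card F ^ (2 * m ^ 2 + m) := by
  have h1 : Nat.card (PSp m F) ≤ Nat.card (Matrix.symplecticGroup (Fin m) F) :=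
    Nat.card_le_card_of_surjective _ (QuotientGroup.mk'_surjective _)
  refine h1.trans ?_
  rw [LieClassical.SympCount.card_symplecticGroup, ← Nat.card_eq_fintype_card]
  have h2 : ∀ m : ℕ, ∏ i ∈ Finset.range m, (Nat.card F ^ (2 * (i + 1)) - 1) ≤ Nat.card F ^ (m ^ 2 + m) := by
    intro m
    induction m with
    | zero => simp
    | succ m ih =>
      rw [Finset.prod_range_succ]
      calc _ ≤ Nat.card F ^ (m ^ 2 + m) * Nat.card F ^ (2 * (m + 1)) := Nat.mul_le_mul ih (Nat.sub_le _ _)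
        _ = _ := by rw [← pow_add]; congr 1; ring
  calc _ ≤ Nat.card F ^ (m ^ 2) * Nat.card F ^ (m ^ 2 + m) := Nat.mul_le_mul_left _ (h2 m)
    _ = _ := by rw [← pow_add]; congr 1; ring

/-- **The row `PSp_2m(q)`** (`p ∣ k` or `p ∣ l`) -/
theorem kl_psp {F : Type} [Field F] [Fintype F] {m p k l : ℕ} (hm : 2 ≤ m) (hp : p.Prime) [CharP F p] (hk : 2 ≤ k)
    (hl : 2 ≤ l) (hg : ¬ k.Coprime l) (hd : p ∣ k ∨ p ∣ l)
    (hbig : (max k l) ^ (8 * (max k l) ^ 2) ≤ Nat.card (PSp m F)) : H134.War.KL (PSp m F) k l := by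
  have hM : 2 ≤ max k l := hk.trans (le_max_left _ _)
  have hq : 2 ≤ Nat.card F := Finite.one_lt_card
  have he0 : 1 ≤ ee p k l := Nat.ordCompl_pos p (Nat.lcm_ne_zero (by omega) (by omega))
  have he : ee p k l = 1 ∨ (6 ≤ max k l ∧ 2 * ee p k l ≤ (max k l) ^ 2) := by
    rcases Nat.lt_or_ge (max k l) 6 with h | h
    · exact Or.inl (ee_eq_one hp hk hl hg (by omega) hd)
    · exact Or.inr ⟨h, ee_le (by omega) hg⟩
  have hb := hbig.trans (card_psp_le m)
  refine (ss_psp (p := p) hm he0 (Cfsg.Agent.H140.War.numeric hq hm hM he0 hb he (Or.inl rfl)) ?_).kl'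
  intro h2 hev h3
  refine Cfsg.Agent.H140.War.numeric hq hm hM he0 hb he (Or.inr ⟨?_, by obtain ⟨c, hc⟩ := hev; omega, h3⟩)
  by_contra hcon
  have hq2 : Nat.card F = 2 := by omega
  apply h2
  have h4 := FiniteField.cast_card_eq_zero F
  rw [← Nat.card_eq_fintype_card, hq2] at h4
  exact_mod_cast h4

end Cfsg.Agent.H144.War
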