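import Cfsg.Agent.H144.War.Engine

/-!
# S2453 for `PSp_2n(q)`: the boxes

`Mix B g a b R` : `R = (U ⊕ W) ⊕ Q`, `U ⊕ W` and `Q` totally isotropic, `dim U = a`, `dim W = b`, the corner of `g`
on `U ⊕ W` is `1` on `U` and `-1` on `W`.
-/

set_option autoImplicit false
open Polynomial

namespace Cfsg.Agent.H144.War

variable {F V : Type*} [Field F] [AddCommGroup V] [Module F V]

/-- the corner `diag(1_a, -1_b)` on `R` -/
def Mix (B : LinearMap.BilinForm F V) (g : V ≃ₗ[F] V) (a b : ℕ) (R : Submodule F V) : Prop :=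
  ∃ U W Q : Submodule F V, Orth B (U ⊔ W) (U ⊔ W) ∧ Orth B Q Q ∧ U ⊔ W ⊔ Q = R ∧ Module.finrank F U = a ∧
    Module.finrank F W = b ∧ (∀ v ∈ U, g v - v ∈ Q) ∧ ∀ v ∈ W, g v + v ∈ Q

/-- **box R** (reflection).  `g = (1 + n)(1 + m)` on `R = P ⊕ Q`, `n ≠ 0` (or `m ≠ 0`, exchange `P` and `Q`): choose
`v ∈ P` with `B (g v) v ≠ 0` and replace `Q` by `{w + s w}`, `s w = (2 / B (g v) v) • B w v • v` : the corner becomes the
reflection `u ↦ u - 2 (B (g u) v / B (g v) v) v`. -/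
def Reflection : Prop := ∀ {F V : Type} [Field F] [AddCommGroup V] [Module F V] [FiniteDimensional F V] (_ : (2 : F) ≠ 0)
  {B : LinearMap.BilinForm F V} (_ : Alt B) {g : V ≃ₗ[F] V} (_ : Iso B g) {R : Submodule F V} (_ : Nd B R)
  (_ : Inv g R) {a : ℕ} (_ : Module.finrank F R = 2 * (a + 1)) (_ : C1On B g R) (_ : ¬ ∀ v ∈ R, g v = v), Mix B g a 1 R

/-- **box J2** (block).  `A = 1` on `U` (`dim U = s - 2`), `A p₁ = p₂`, `A p₂ = - p₁`: then `A = x z` with good `x`, `z`. -/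
def JBlock : Prop := ∀ {F V : Type} [Field F] [Finite F] [AddCommGroup V] [Module F V] [FiniteDimensional F V]
  (_ : (2 : F) ≠ 0) {p e s : ℕ} [CharP F p] (_ : 2 ≤ s) (_ : 1 ≤ e)
  (_ : e * (Nat.card F ^ (s / 2) + 1) < Nat.card F ^ s - 1) (_ : Module.finrank F V = s) {U : Submodule F V}
  (_ : Module.finrank F U = s - 2) {A : V ≃ₗ[F] V} (_ : ∀ v ∈ U, A v = v) {p₁ p₂ : V} (_ : A p₁ = p₂) (_ : A p₂ = -p₁)
  (_ : U ⊔ Submodule.span F {p₁, p₂} = ⊤), Fac p e A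

/-- **box J1** (corner).  `g = 1` on `R'` of dimension `2 (s - 1)`, `g = -1` on `R₁` of dimension `2`: there is a corner
as in `JBlock`.  Hyperbolic pairs `e₁, f₁` of `R'`, `e₂, f₂` of `R₁`: `p₁ = e₁ + e₂`, `p₂ = f₁ - f₂`, and `Q` contains
`e₁ - e₂ - f₁ + f₂`, `f₁ + f₂ + e₁ + e₂`. -/
def JCorner : Prop := ∀ {F V : Type} [Field F] [AddCommGroup V] [Module F V] [FiniteDimensional F V] (_ : (2 : F) ≠ 0)
  {B : LinearMap.BilinForm F V} (_ : Alt B) (_ : Nond B) {g : V ≃ₗ[F] V} (_ : Iso B g) {R' R₁ : Submodule F V} {s : ℕ}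
  (_ : 2 ≤ s) (_ : Module.finrank F R' = 2 * (s - 1)) (_ : Module.finrank F R₁ = 2) (_ : Orth B R' R₁)
  (_ : R' ⊔ R₁ = ⊤) (_ : ∀ v ∈ R', g v = v) (_ : ∀ v ∈ R₁, g v = -v),
  ∃ P Q U : Submodule F V, ∃ p₁ ∈ P, ∃ p₂ ∈ P, Orth B P P ∧ Orth B Q Q ∧ P ⊔ Q = ⊤ ∧ U ≤ P ∧
    Module.finrank F U = s - 2 ∧ U ⊔ Submodule.span F {p₁, p₂} = P ∧ (∀ v ∈ U, g v - v ∈ Q) ∧ g p₁ - p₂ ∈ Q ∧
    g p₂ + p₁ ∈ Q

end Cfsg.Agent.H144.War
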