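import Cfsg.Agent.H144.War.Boxes

/-!
# S2453 for `PSp_2n(q)`: the block lemma for the corner `diag(1_a, -1_b)`, `b` even
-/

set_option autoImplicit false
open Polynomial

namespace Cfsg.Agent.H144.War

/-- **box E** (core of the mixed block).  `K = F[ξ]` of degree `r + c`, `1 ≤ c ≤ r + 1`, `g = minpoly F ξ`, `f` monic of degree
`r + c` with `f(0) = (-1)^c g(0)`.  There is `X` killed by `f` such that `A = X ∘ (ξ ·)⁻¹` is `1` on a subspace `W` of
dimension `r` and `-1` modulo `W`. -/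
def MixCore : Prop := ∀ {F K : Type} [Field F] [Field K] [Algebra F K] [FiniteDimensional F K] {r c : ℕ} (_ : 1 ≤ c)
  (_ : c ≤ r + 1) (_ : Module.finrank F K = r + c) {ξ : K} (_ : ξ ≠ 0) (_ : (minpoly F ξ).natDegree = r + c)
  {f : F[X]} (_ : f.Monic) (_ : f.natDegree = r + c) (_ : f.coeff 0 = (-1) ^ c * (minpoly F ξ).coeff 0),
  ∃ (X : K ≃ₗ[F] K) (W : Submodule F K), aeval (X : Module.End F K) f = 0 ∧ Module.finrank F W = r ∧
    (∀ v : K, ξ * v ∈ W → X v = ξ * v) ∧ ∀ v : K, X v + ξ * v ∈ W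

end Cfsg.Agent.H144.War
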