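import Cfsg.Agent.H144.Decomp

/-!
# S2453 for `PSp_2n(q)` (row L4): definitions

* `EP p e x` : `x ∈ GL(V)` is an `e`-th power of an element of order prime to `p`, and no product of two
  eigenvalues of `x` is `1` (`Sing`).
* `Fac p e A` : `A = x z` with `EP p e x`, `EP p e z`.
* `Pw B p e g` : `g = x ^ e * y ^ e` with isometries `x`, `y` of order prime to `p`.
-/

set_option autoImplicit false
open Polynomial

namespace Cfsg.Agent.H144.War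

variable {F V : Type*} [Field F] [AddCommGroup V] [Module F V]

/-- `x` is the `e`-th power of an element of order prime to `p`, and satisfies the polynomial conditions `Sing` -/
def EP (p e : ℕ) (x : V ≃ₗ[F] V) : Prop :=
  (∃ (d : V ≃ₗ[F] V) (N : ℕ), N.Coprime p ∧ d ^ N = 1 ∧ d ^ e = x) ∧ ∃ f f' : F[X], Sing x f f'

/-- `A` is the product of two such elements -/
def Fac (p e : ℕ) (A : V ≃ₗ[F] V) : Prop :=
  ∃ x z : V ≃ₗ[F] V, EP p e x ∧ EP p e z ∧ ∀ v, A v = x (z v)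

/-- `g = x ^ e * y ^ e` with isometries of order prime to `p` -/
def Pw (B : LinearMap.BilinForm F V) (p e : ℕ) (g : V ≃ₗ[F] V) : Prop :=
  ∃ (x y : V ≃ₗ[F] V) (N : ℕ), Iso B x ∧ Iso B y ∧ N.Coprime p ∧ x ^ N = 1 ∧ y ^ N = 1 ∧ g = x ^ e * y ^ e

/-- **box N1** (numbers).  `s = n`, or `s = n / 2` (only for `q` odd) -/
def Numeric : Prop := ∀ {q n s M e : ℕ} (_ : 2 ≤ q) (_ : 2 ≤ n) (_ : 2 ≤ M) (_ : 1 ≤ e)
  (_ : M ^ (8 * M ^ 2) ≤ q ^ (2 * n ^ 2 + n)) (_ : e = 1 ∨ (6 ≤ M ∧ 2 * e ≤ M ^ 2))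
  (_ : s = n ∨ (3 ≤ q ∧ n = 2 * s ∧ 3 ≤ s)), e * (q ^ (s / 2) + 1) < q ^ s - 1

/-- **box N2** (field elements) -/
def ExistsXi : Prop := ∀ (F : Type) [Field F] [Finite F] {s e : ℕ} (_ : 2 ≤ s) (_ : 1 ≤ e)
  (_ : e * (Nat.card F ^ (s / 2) + 1) < Nat.card F ^ s - 1),
  ∃ (K : Type) (_ : Field K) (_ : Algebra F K) (_ : FiniteDimensional F K), Module.finrank F K = s ∧
    ∃ ζ : K, ζ ≠ 0 ∧ ζ ^ (Nat.card F ^ s - 1) = 1 ∧ (minpoly F (ζ ^ e)).natDegree = s ∧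
      aeval (ζ ^ e)⁻¹ (minpoly F (ζ ^ e)) ≠ 0 ∧ aeval (ζ ^ e) (minpoly F (ζ ^ e)⁻¹) ≠ 0

end Cfsg.Agent.H144.War
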