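import Cfsg.Agent.H144.War.Defs

/-!
# The engine: corners `A = x z` with `x`, `z` good

* `pw_of_corner` : `V = P ⊕ Q` totally isotropic, `g v - A v ∈ Q` for `v ∈ P` and `Fac p e A` imply `Pw B p e g`.
* `fac_conj` : `Fac` is invariant under isomorphisms.
-/

set_option autoImplicit false
open Polynomial

noncomputable section

namespace Cfsg.Agent.H144.War

variable {F V M : Type*} [Field F] [AddCommGroup V] [Module F V] [AddCommGroup M] [Module F M]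

/-! ### transport -/

/-- transport of an automorphism -/
def tr (e : V ≃ₗ[F] M) (x : M ≃ₗ[F] M) : V ≃ₗ[F] V := e.trans (x.trans e.symm)

theorem tr_apply (e : V ≃ₗ[F] M) (x : M ≃ₗ[F] M) (v : V) : tr e x v = e.symm (x (e v)) := rfl

theorem tr_mul (e : V ≃ₗ[F] M) (x y : M ≃ₗ[F] M) : tr e (x * y) = tr e x * tr e y := by
  ext v
  simp [tr_apply, LinearEquiv.mul_apply]

theorem tr_one (e : V ≃ₗ[F] M) : tr e 1 = 1 := by
  ext v
  simp [tr_apply]

theorem tr_pow (e : V ≃ₗ[F] M) (x : M ≃ₗ[F] M) (k : ℕ) : tr e (x ^ k) = tr e x ^ k := by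
  induction k with
  | zero => rw [pow_zero, pow_zero, tr_one]
  | succ k ih => rw [pow_succ, tr_mul, ih, pow_succ]

theorem EP.conj {p e : ℕ} {x : M ≃ₗ[F] M} (hx : EP p e x) (φ : V ≃ₗ[F] M) : EP p e (tr φ x) := by
  obtain ⟨⟨d, N, hN, hd, hde⟩, f, f', hf⟩ := hx
  exact ⟨⟨tr φ d, N, hN, by rw [← tr_pow, hd, tr_one], by rw [← tr_pow, hde]⟩, f, f', hf.conj φ (fun v => rfl)⟩

theorem Fac.conj {p e : ℕ} {A : M ≃ₗ[F] M} (hA : Fac p e A) (φ : V ≃ₗ[F] M) {A' : V ≃ₗ[F] V}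
    (h : ∀ v, φ (A' v) = A (φ v)) : Fac p e A' := by
  obtain ⟨x, z, hx, hz, hxz⟩ := hA
  refine ⟨tr φ x, tr φ z, hx.conj φ, hz.conj φ, fun v => ?_⟩
  rw [tr_apply, tr_apply, φ.apply_symm_apply, ← hxz, ← h, φ.symm_apply_apply]

/-! ### inverse -/

theorem sing_inv {x : V ≃ₗ[F] V} {f f' : F[X]} (h : Sing x f f') : Sing x⁻¹ f' f := by
  obtain ⟨h1, h2, h3, h4⟩ := h
  refine ⟨h3, ?_, ?_, h2⟩
  · rw [inv_inv]; exact h4
  · rw [inv_inv]; exact h1

theorem EP.inv {p e : ℕ} {x : V ≃ₗ[F] V} (hx : EP p e x) : EP p e x⁻¹ := by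
  obtain ⟨⟨d, N, hN, hd, hde⟩, f, f', hf⟩ := hx
  exact ⟨⟨d⁻¹, N, hN, by rw [inv_pow, hd, inv_one], by rw [inv_pow, hde]⟩, f', f, sing_inv hf⟩

/-! ### conjugation by `g` and powers -/

theorem conj_pow' {G : Type*} [Group G] (u x : G) (k : ℕ) : (u * x * u⁻¹) ^ k = u * x ^ k * u⁻¹ := by
  induction k with
  | zero => simp
  | succ k ih => rw [pow_succ, ih, pow_succ]; group

theorem Iso.pow {B : LinearMap.BilinForm F V} {g : V ≃ₗ[F] V} (hg : Iso B g) (k : ℕ) : Iso B (g ^ k) := by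
  induction k with
  | zero => rw [pow_zero]; exact Iso.one B
  | succ k ih => rw [pow_succ]; exact Iso.mul ih hg

theorem mem_pow {D : V ≃ₗ[F] V} {Q : Submodule F V} (h : ∀ v ∈ Q, D v ∈ Q) (k : ℕ) : ∀ v ∈ Q, (D ^ k) v ∈ Q := by
  induction k with
  | zero => intro v hv; simpa using hv
  | succ k ih => intro v hv; rw [pow_succ, LinearEquiv.mul_apply]; exact ih _ (h v hv)

theorem pow_restrict {D : V ≃ₗ[F] V} {P : Submodule F V} {d : P ≃ₗ[F] P} (h : ∀ v : P, D v = d v) (k : ℕ) (v : P) :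
    (D ^ k) v = ((d ^ k) v : P) := by
  induction k generalizing v with
  | zero => simp
  | succ k ih =>
    rw [pow_succ, LinearEquiv.mul_apply, h, ih, pow_succ, LinearEquiv.mul_apply]

variable [FiniteDimensional F V]

/-- the polynomial conditions for the extension of `x` to `V` -/
theorem sing_levi {B : LinearMap.BilinForm F V} (hB : Alt B) (hN : Nond B) {P Q : Submodule F V}
    (hQ : Orth B Q Q) (hPQ : P ⊔ Q = ⊤) {x : P ≃ₗ[F] P} {f f' : F[X]}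
    (hx : Sing x f f') {X : V ≃ₗ[F] V} (hX : Iso B X) (hXx : ∀ v : P, X v = x v) (hXQ : ∀ v ∈ Q, X v ∈ Q) :
    (∀ v ∈ P, aeval (X : Module.End F V) f v = 0) ∧
    (∀ v ∈ Q, aeval (X : Module.End F V) f v = 0 → v = 0) ∧
    (∀ v ∈ Q, aeval (X : Module.End F V) f' v = 0) ∧
    (∀ v ∈ P, aeval (X : Module.End F V) f' v = 0 → v = 0) := by
  have hXi : ∀ v : P, X⁻¹ v = (x⁻¹ v : P) := by
    intro v
    have h1 := hXx (x⁻¹ v)
    rw [app_inv] at h1
    rw [← h1, inv_app]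
  refine ⟨?_, ?_, ?_, ?_⟩
  · intro v hv
    have h1 := aeval_restrict (X := (X : Module.End F V)) (x := (x : Module.End F P)) hXx f ⟨v, hv⟩
    rw [h1, hx.1]
    rfl
  · intro v hv h0
    apply eq_zero_of_orth hN hPQ _ (hQ v hv)
    intro w hw
    have hinj : Function.Injective (aeval ((x⁻¹ : P ≃ₗ[F] P) : Module.End F P) f) := by
      rw [← LinearMap.ker_eq_bot, LinearMap.ker_eq_bot']
      exact hx.2.1
    obtain ⟨w', hw'⟩ := (LinearMap.injective_iff_surjective.1 hinj) ⟨w, hw⟩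
    have h1 := aeval_adj hX f (w' : V) v
    have h2 := aeval_restrict (X := ((X⁻¹ : V ≃ₗ[F] V) : Module.End F V))
      (x := ((x⁻¹ : P ≃ₗ[F] P) : Module.End F P)) hXi f w'
    rw [h0, map_zero, h2, hw'] at h1
    exact hB.zero h1.symm
  · intro v hv
    apply eq_zero_of_orth hN hPQ _ (hQ _ (aeval_mem hXQ f' v hv))
    intro w hw
    have h1 := aeval_adj hX f' w v
    have h2 := aeval_restrict (X := ((X⁻¹ : V ≃ₗ[F] V) : Module.End F V))
      (x := ((x⁻¹ : P ≃ₗ[F] P) : Module.End F P)) hXi f' ⟨w, hw⟩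
    simp only at h2
    rw [h2, hx.2.2.1, Submodule.coe_zero, map_zero, LinearMap.zero_apply] at h1
    exact hB.zero h1
  · intro v hv h0
    have h1 := aeval_restrict (X := (X : Module.End F V)) (x := (x : Module.End F P)) hXx f' ⟨v, hv⟩
    rw [h0] at h1
    exact congrArg Subtype.val (hx.2.2.2 ⟨v, hv⟩ (Subtype.ext h1.symm))

theorem skew_conj {B : LinearMap.BilinForm F V} {P : Submodule F V} {X : V ≃ₗ[F] V} (hX : Iso B X)
    (hXP : ∀ v ∈ P, X v ∈ P) {m : Module.End F V} (hm : m ∈ Skew B P) : X.symm.conj m ∈ Skew B P := by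
  have hXi := inv_mem_of_mem hXP
  have hap : ∀ v, X.symm.conj m v = X.symm (m (X v)) := fun v => rfl
  refine ⟨fun v => ?_, fun v hv => ?_, fun x y => ?_⟩
  · exact hXi _ (hm.1 _)
  · rw [hap, hm.2.1 _ (hXP v hv), map_zero]
  · have h1 := hm.2.2 (X x) (X y)
    have h2 := hX (X.symm (m (X x))) y
    have h3 := hX x (X.symm (m (X y)))
    rw [X.apply_symm_apply] at h2 h3
    rw [hap, hap, ← h2, ← h3, h1]

theorem pw_of_corner {B : LinearMap.BilinForm F V} (hB : Alt B) (hN : Nond B) {P Q : Submodule F V}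
    (hP : Orth B P P) (hQ : Orth B Q Q) (hPQ : P ⊔ Q = ⊤) {p e : ℕ} {A : P ≃ₗ[F] P} (hA : Fac p e A)
    {g : V ≃ₗ[F] V} (hg : Iso B g) (hc : ∀ v : P, g v - A v ∈ Q) : Pw B p e g := by
  obtain ⟨x, z, ⟨⟨d₁, N₁, hN₁, hd₁, hde₁⟩, f₁, f₁', hf₁⟩, ⟨⟨d₂, N₂, hN₂, hd₂, hde₂⟩, f₂, f₂', hf₂⟩, hxz⟩ := hA
  obtain ⟨D₁, hD₁, hDd₁, hDQ₁⟩ := levi hB hN hP hQ hPQ d₁
  obtain ⟨D₂, hD₂, hDd₂, hDQ₂⟩ := levi hB hN hP hQ hPQ d₂
  have hX : Iso B (D₁ ^ e) := Iso.pow hD₁ e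
  have hZ : Iso B (D₂ ^ e) := Iso.pow hD₂ e
  have hXx : ∀ v : P, (D₁ ^ e) v = x v := fun v => by rw [pow_restrict hDd₁, hde₁]
  have hZz : ∀ v : P, (D₂ ^ e) v = z v := fun v => by rw [pow_restrict hDd₂, hde₂]
  have hXQ := mem_pow hDQ₁ e
  have hZQ := mem_pow hDQ₂ e
  have hN1 : D₁ ^ N₁ = 1 := by
    ext v
    have := levi_unique hB hN hP hQ hPQ (Iso.pow hD₁ N₁) (mem_pow hDQ₁ N₁) 1 (one_mul 1)
      (fun v hv => by rw [pow_restrict hDd₁ N₁ ⟨v, hv⟩, hd₁, one_smul]; rfl) v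
    rw [this, one_smul]
    rfl
  have hN2 : D₂ ^ N₂ = 1 := by
    ext v
    have := levi_unique hB hN hP hQ hPQ (Iso.pow hD₂ N₂) (mem_pow hDQ₂ N₂) 1 (one_mul 1)
      (fun v hv => by rw [pow_restrict hDd₂ N₂ ⟨v, hv⟩, hd₂, one_smul]; rfl) v
    rw [this, one_smul]
    rfl
  obtain ⟨a1, a2, -, -⟩ := sing_levi hB hN hQ hPQ hf₁ hX hXx hXQ
  obtain ⟨-, -, b3, b4⟩ := sing_levi hB hN hQ hPQ hf₂ hZ hZz hZQ
  generalize hXe : D₁ ^ e = X at *
  generalize hZe : D₂ ^ e = Z at *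
  have hXP : ∀ v ∈ P, X v ∈ P := fun v hv => by rw [hXx ⟨v, hv⟩]; exact (x ⟨v, hv⟩).2
  have hZP : ∀ v ∈ P, Z v ∈ P := fun v hv => by rw [hZz ⟨v, hv⟩]; exact (z ⟨v, hv⟩).2
  -- `h = g (X Z)⁻¹`
  have hXZP : ∀ v ∈ P, (X * Z) v ∈ P := fun v hv => hXP _ (hZP v hv)
  obtain ⟨n, m, hn, hm, hnm⟩ := c1_factor hB hN hP hQ hPQ (g := g * (X * Z)⁻¹) (hg.mul (hX.mul hZ).inv) (by
    intro v hv
    have h1 := inv_mem_of_mem hXZP v hv
    have h2 := hc ⟨_, h1⟩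
    have h3 : ((A ⟨_, h1⟩ : P) : V) = v := by
      rw [hxz, ← hXx, ← hZz]
      exact app_inv (X * Z) v
    rw [h3] at h2
    exact h2)
  have hgn : g = uni n (skew_sq hn) * uni m (skew_sq hm) * (X * Z) := by
    rw [← hnm]; group
  have hm' := skew_conj hX hXP hm
  have e0 : uni m (skew_sq hm) * X = X * uni (X.symm.conj m) (skew_sq hm') := by
    ext v
    rw [LinearEquiv.mul_apply, LinearEquiv.mul_apply, uni_apply, uni_apply, map_add]
    congr 1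
    exact (X.apply_symm_apply _).symm
  obtain ⟨s, hs, hsX⟩ := sylvester hPQ hX hXQ f₁ a1 a2 hn
  have e1 : uni s (skew_sq hs) * X = uni n (skew_sq hn) * X * uni s (skew_sq hs) := by
    ext v
    simp only [LinearEquiv.mul_apply, uni_apply, map_add]
    have : n (X (s v)) = 0 := hn.2.1 _ (hXQ _ (hs.1 v))
    rw [hsX, this]
    abel
  have hQP : Q ⊔ P = ⊤ := by rw [sup_comm]; exact hPQ
  obtain ⟨t, ht, htZ⟩ := sylvester hQP hZ hZP f₂' b3 b4 hm'
  have e2 : uni t (skew_sq ht) * Z = uni (X.symm.conj m) (skew_sq hm') * Z * uni t (skew_sq ht) := by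
    ext v
    simp only [LinearEquiv.mul_apply, uni_apply, map_add]
    have : (X.symm.conj m) (Z (t v)) = 0 := hm'.2.1 _ (hZP _ (ht.1 v))
    rw [htZ, this]
    abel
  have hui : Iso B (uni s (skew_sq hs)) := skew_iso hQ hs
  have hti : Iso B (uni t (skew_sq ht)) := skew_iso hP ht
  generalize uni n (skew_sq hn) = a at *
  generalize uni m (skew_sq hm) = b at *
  generalize uni (X.symm.conj m) (skew_sq hm') = b' at *
  generalize uni s (skew_sq hs) = u at *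
  generalize uni t (skew_sq ht) = w at *
  have k1 : a * X = u * X * u⁻¹ := by rw [e1]; group
  have k2 : b' * Z = w * Z * w⁻¹ := by rw [e2]; group
  refine ⟨u * D₁ * u⁻¹, w * D₂ * w⁻¹, N₁ * N₂, (hui.mul hD₁).mul hui.inv, (hti.mul hD₂).mul hti.inv,
    Nat.Coprime.mul_left hN₁ hN₂, ?_, ?_, ?_⟩
  · rw [conj_pow', pow_mul, hN1, one_pow]; group
  · rw [conj_pow', mul_comm, pow_mul, hN2, one_pow]; group
  · rw [conj_pow', conj_pow', hXe, hZe, ← k1, ← k2, hgn]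
    calc a * b * (X * Z) = a * (b * X) * Z := by group
      _ = a * (X * b') * Z := by rw [e0]
      _ = _ := by group

end Cfsg.Agent.H144.War
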