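import Cfsg.Agent.H144.War.MixEng

/-!
# Every isometry `g` or its negative is `x ^ e * y ^ e`
-/

set_option autoImplicit false
open Polynomial

noncomputable section

namespace Cfsg.Agent.H144.War

variable {F V : Type} [Field F] [Finite F] [AddCommGroup V] [Module F V] [FiniteDimensional F V]

omit [Finite F] in
/-- the automorphism `1` on `U`, `p₁ ↦ p₂ ↦ -p₁` -/
theorem exists_J {s : ℕ} (hs : 2 ≤ s) (hV : Module.finrank F V = s) {U : Submodule F V}
    (hU : Module.finrank F U = s - 2) {p₁ p₂ : V} (htop : U ⊔ Submodule.span F {p₁, p₂} = ⊤) :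
    ∃ A : V ≃ₗ[F] V, (∀ v ∈ U, A v = v) ∧ A p₁ = p₂ ∧ A p₂ = -p₁ := by
  let T : (U × F × F) →ₗ[F] V := U.subtype.coprod ((LinearMap.toSpanSingleton F V p₁).coprod (LinearMap.toSpanSingleton F V p₂))
  have hT : ∀ (u : U) (x y : F), T (u, x, y) = u + (x • p₁ + y • p₂) := fun u x y => rfl
  have hsurj : Function.Surjective T := by
    intro v
    obtain ⟨u, hu, w, hw, rfl⟩ := mem_sup_top htop v
    obtain ⟨x, y, rfl⟩ := Submodule.mem_span_pair.1 hw
    exact ⟨(⟨u, hu⟩, x, y), hT _ _ _⟩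
  have hfin : Module.finrank F (U × F × F) = Module.finrank F V := by
    rw [Module.finrank_prod, Module.finrank_prod, Module.finrank_self, hU, hV]
    omega
  have hinj : Function.Injective T := by
    have h1 := LinearMap.finrank_range_add_finrank_ker T
    rw [LinearMap.range_eq_top.2 hsurj, finrank_top, ← hfin] at h1
    have h2 : Module.finrank F (LinearMap.ker T) = 0 := by omega
    exact LinearMap.ker_eq_bot.1 (Submodule.finrank_eq_zero.1 h2)
  let φ : (U × F × F) ≃ₗ[F] V := LinearEquiv.ofBijective T ⟨hinj, hsurj⟩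
  have hφ : ∀ (u : U) (x y : F), φ (u, x, y) = u + (x • p₁ + y • p₂) := fun u x y => rfl
  have hφs : ∀ (u : U) (x y : F), φ.symm (u + (x • p₁ + y • p₂)) = (u, x, y) := by
    intro u x y
    rw [LinearEquiv.symm_apply_eq, hφ]
  let j : (F × F) ≃ₗ[F] (F × F) := LinearEquiv.ofLinearMap
    ((-LinearMap.snd F F F).prod (LinearMap.fst F F F)) ((LinearMap.snd F F F).prod (-LinearMap.fst F F F))
    (by ext <;> simp) (by ext <;> simp)
  let A : V ≃ₗ[F] V := tr φ.symm ((LinearEquiv.refl F U).prodCongr j)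
  have hA : ∀ (u : U) (x y : F), A (u + (x • p₁ + y • p₂)) = u + (-y • p₁ + x • p₂) := by
    intro u x y
    change φ (((LinearEquiv.refl F U).prodCongr j) (φ.symm (u + (x • p₁ + y • p₂)))) = _
    rw [hφs]
    rfl
  refine ⟨A, fun v hv => ?_, ?_, ?_⟩
  · have := hA ⟨v, hv⟩ 0 0
    simpa using this
  · have := hA 0 1 0
    simpa using this
  · have := hA 0 0 1
    simpa using this

theorem pw_j (hJ1 : JCorner) (hJ2 : JBlock) (h2 : (2 : F) ≠ 0)
    {B : LinearMap.BilinForm F V} (hB : Alt B) (hN : Nond B) {p e s : ℕ} [CharP F p] (hs : 2 ≤ s) (he : 1 ≤ e)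
    (hnum : e * (Nat.card F ^ (s / 2) + 1) < Nat.card F ^ s - 1) {g : V ≃ₗ[F] V} (hg : Iso B g)
    {R' R₁ : Submodule F V} (hR' : Module.finrank F R' = 2 * (s - 1)) (hR₁ : Module.finrank F R₁ = 2)
    (ho : Orth B R' R₁) (htop : R' ⊔ R₁ = ⊤) (h1 : ∀ v ∈ R', g v = v) (h3 : ∀ v ∈ R₁, g v = -v) : Pw B p e g := by
  obtain ⟨P, Q, U, p₁, hp₁, p₂, hp₂, hP, hQ, hPQ, hUP, hU, hsup, hgU, hg1, hg2⟩ :=
    hJ1 h2 hB hN hg hs hR' hR₁ ho htop h1 h3
  have hdim : Module.finrank F V = 2 * s := by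
    have hc := Submodule.finrank_sup_add_finrank_inf_eq R' R₁
    have hd : R' ⊓ R₁ = ⊥ := by
      rw [eq_bot_iff]
      intro v hv
      have : v = 0 := by
        apply eq_zero_of_orth hN htop
        · intro w hw
          exact hB.zero (ho w hw v hv.2)
        · intro w hw
          exact ho v hv.1 w hw
      exact this
    rw [hd, htop, finrank_top, finrank_bot, hR', hR₁] at hc
    omega
  have hPs : Module.finrank F P = s := by
    have := finrank_two hB hN hP hQ hPQ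
    omega
  have htop' : U.comap P.subtype ⊔ Submodule.span F {(⟨p₁, hp₁⟩ : P), ⟨p₂, hp₂⟩} = ⊤ := by
    rw [eq_top_iff]
    intro v _
    have hv : (v : V) ∈ U ⊔ Submodule.span F {p₁, p₂} := by rw [hsup]; exact v.2
    obtain ⟨u, hu, w, hw, huw⟩ := Submodule.mem_sup.1 hv
    obtain ⟨x, y, rfl⟩ := Submodule.mem_span_pair.1 hw
    have e1 : v = (⟨u, hUP hu⟩ : P) + (x • (⟨p₁, hp₁⟩ : P) + y • (⟨p₂, hp₂⟩ : P)) := Subtype.ext huw.symm
    rw [e1]
    exact Submodule.add_mem_sup hu (Submodule.mem_span_pair.2 ⟨x, y, rfl⟩)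
  have hU' : Module.finrank F (U.comap P.subtype) = s - 2 := by
    rw [(Submodule.comapSubtypeEquivOfLe hUP).finrank_eq, hU]
  obtain ⟨A, hA1, hA2, hA3⟩ := exists_J hs hPs hU' htop'
  have hfac : Fac p e A := hJ2 h2 hs he hnum hPs hU' hA1 hA2 hA3 htop'
  refine pw_of_corner hB hN hP hQ hPQ hfac hg ?_
  intro v
  have hv : v ∈ U.comap P.subtype ⊔ Submodule.span F {(⟨p₁, hp₁⟩ : P), ⟨p₂, hp₂⟩} := by rw [htop']; trivial
  obtain ⟨u, hu, w, hw, rfl⟩ := Submodule.mem_sup.1 hv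
  obtain ⟨x, y, rfl⟩ := Submodule.mem_span_pair.1 hw
  rw [map_add, hA1 u hu, map_add, map_smul, map_smul, hA2, hA3]
  have e1 : g ((u + (x • (⟨p₁, hp₁⟩ : P) + y • (⟨p₂, hp₂⟩ : P)) : P) : V) -
      ((u + (x • (⟨p₂, hp₂⟩ : P) + y • -(⟨p₁, hp₁⟩ : P)) : P) : V) =
      (g u - u) + (x • (g p₁ - p₂) + y • (g p₂ + p₁)) := by
    push_cast
    rw [map_add, map_add, map_smul, map_smul]
    module
  rw [e1]
  exact Q.add_mem (hgU _ hu) (Q.add_mem (Q.smul_mem _ hg1) (Q.smul_mem _ hg2))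

theorem two_case (hJ1 : JCorner) (hJ2 : JBlock) (hE : MixCore) (hXi : ExistsXi) (h2 : (2 : F) ≠ 0)
    {B : LinearMap.BilinForm F V} (hB : Alt B) (hN : Nond B) {p e n a b : ℕ} [CharP F p] (he : 1 ≤ e)
    (hnum : e * (Nat.card F ^ (n / 2) + 1) < Nat.card F ^ n - 1)
    (hnum' : 3 ≤ n / 2 → e * (Nat.card F ^ (n / 2 / 2) + 1) < Nat.card F ^ (n / 2) - 1)
    {g : V ≃ₗ[F] V} (hg : Iso B g) {R' R₁ : Submodule F V} (hR' : Module.finrank F R' = 2 * a)
    (hR₁ : Module.finrank F R₁ = 2 * b) (hab : a + b = n) (ha : Odd a) (hb : Odd b) (hba : b ≤ a) (hN' : Nd B R')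
    (hN₁ : Nd B R₁) (ho : Orth B R' R₁) (htop : R' ⊔ R₁ = ⊤) (h1 : ∀ v ∈ R', g v = v) (h3 : ∀ v ∈ R₁, g v = -v) :
    Pw B p e g := by
  obtain ⟨c, rfl⟩ := ha
  obtain ⟨d, rfl⟩ := hb
  rcases Nat.eq_zero_or_pos d with hd | hd
  · subst hd
    exact pw_j hJ1 hJ2 h2 hB hN (s := n) (by omega) he hnum hg (by rw [hR']; omega) (by rw [hR₁]; omega) ho htop h1 h3
  -- `b ≥ 3`
  obtain ⟨s, hs⟩ : ∃ s, n = 2 * s := ⟨c + d + 1, by omega⟩
  have hs2 : n / 2 = s := by omega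
  rw [hs2] at hnum'
  have hs3 : 3 ≤ s := by omega
  obtain ⟨R1, hR1, hR1N, hR1f⟩ := exists_sub hB hN' hR' (s - 1) (by omega)
  obtain ⟨R2, hR2, hR12, hR12s, hR2N, hR2f, -⟩ := split_off hB hR1 hR1N hN'
  obtain ⟨S1, hS1, hS1N, hS1f⟩ := exists_sub hB hN₁ hR₁ 1 (by omega)
  obtain ⟨S2, hS2, hS12, hS12s, hS2N, hS2f, -⟩ := split_off hB hS1 hS1N hN₁
  have oRS : ∀ {T T' : Submodule F V}, T ≤ R' → T' ≤ R₁ → Orth B T T' := fun h4 h5 x hx y hy =>
    ho x (h4 hx) y (h5 hy)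
  have oA : Orth B (R1 ⊔ S1) (R2 ⊔ S2) :=
    orth_sup (orth_sup' hR12 (oRS hR1 hS2)) (orth_sup' ((oRS hR2 hS1).symm hB) hS12)
  have hAN : Nd B (R1 ⊔ S1) := Nd.sup hB (oRS hR1 hS1) hR1N hS1N
  have hBN : Nd B (R2 ⊔ S2) := Nd.sup hB (oRS hR2 hS2) hR2N hS2N
  have htopA : R1 ⊔ S1 ⊔ (R2 ⊔ S2) = ⊤ := by
    rw [sup_sup_sup_comm, hR12s, hS12s, htop]
  have inv1 : ∀ {T : Submodule F V}, T ≤ R' → Inv g T := fun h4 v hv => by rw [h1 v (h4 hv)]; exact hv
  have inv2 : ∀ {T : Submodule F V}, T ≤ R₁ → Inv g T := fun {T} h4 v hv => by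
    rw [h3 v (h4 hv)]; exact T.neg_mem hv
  have hIA : Inv g (R1 ⊔ S1) := Inv.sup (inv1 hR1) (inv2 hS1)
  have hIB : Inv g (R2 ⊔ S2) := Inv.sup (inv1 hR2) (inv2 hS2)
  refine pw_sup hB oA hAN htopA hIA hIB ?_ ?_
  · refine pw_j hJ1 hJ2 h2 (restrict_alt hB _) (restrict_nond hAN) (s := s) (by omega) he (hnum' hs3)
      (gr_iso hg _ hIA) (R' := R1.comap (R1 ⊔ S1).subtype) (R₁ := S1.comap (R1 ⊔ S1).subtype) ?_ ?_
      (fun x hx y hy => oRS hR1 hS1 x hx y hy) ?_ ?_ ?_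
    · rw [(Submodule.comapSubtypeEquivOfLe le_sup_left).finrank_eq, hR1f]
    · rw [(Submodule.comapSubtypeEquivOfLe le_sup_right).finrank_eq, hS1f]
    · rw [eq_top_iff]
      intro v _
      obtain ⟨x, hx, y, hy, hxy⟩ := Submodule.mem_sup.1 v.2
      have e1 : v = (⟨x, Submodule.mem_sup_left hx⟩ : ↥(R1 ⊔ S1)) + ⟨y, Submodule.mem_sup_right hy⟩ :=
        Subtype.ext hxy.symm
      rw [e1]
      exact Submodule.add_mem_sup hx hy
    · intro v hv
      exact Subtype.ext (h1 v (hR1 hv))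
    · intro v hv
      exact Subtype.ext (h3 v (hS1 hv))
  · have m1 : Mix B g (2 * c + 1 - (s - 1)) 0 R2 := mix_of_c1On hB hR2N (by omega)
      (exists_lag hB hR2N hg (fun v hv => h1 v (hR2 hv)))
    have m2 : Mix B (ng g) (2 * d) 0 S2 := mix_of_c1On hB hS2N (by omega)
      (exists_lag hB hS2N (ng_iso hg) (fun v hv => by rw [ng_apply, h3 v (hS2 hv), neg_neg]))
    have m2' := m2.ng
    rw [ng_ng] at m2'
    have m3 := mix_restrict hIB (Mix.sup hB (oRS hR2 hS2) hR2N m1 m2')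
    have hfin : Module.finrank F ↥(R2 ⊔ S2) = 2 * s := by
      rw [finrank_sup_of_orth hB (oRS hR2 hS2) hR2N le_rfl le_rfl]
      omega
    have hs' : 2 * c + 1 - (s - 1) + 0 + (0 + 2 * d) = s := by omega
    exact pw_of_mix hE hXi h2 (restrict_alt hB _) (restrict_nond hBN) (by omega)
      (by rw [zero_add]; exact even_two_mul d) (by omega) he (by rw [hs']; exact hnum' hs3) (by rw [hfin, hs'])
      (gr_iso hg _ hIB) m3

theorem pw_or (hR : Reflection) (hJ1 : JCorner) (hJ2 : JBlock) (hE : MixCore) (hXi : ExistsXi)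
    {B : LinearMap.BilinForm F V} (hB : Alt B) (hN : Nond B) {p e n : ℕ} [CharP F p] (hn : 2 ≤ n) (he : 1 ≤ e)
    (hnum : e * (Nat.card F ^ (n / 2) + 1) < Nat.card F ^ n - 1)
    (hnum' : (2 : F) ≠ 0 → Even n → 3 ≤ n / 2 → e * (Nat.card F ^ (n / 2 / 2) + 1) < Nat.card F ^ (n / 2) - 1)
    (hV : Module.finrank F V = 2 * n) {g : V ≃ₗ[F] V} (hg : Iso B g) : Pw B p e g ∨ Pw B p e (ng g) := by
  have hTN : Nd B ⊤ := fun v _ h => hN v (fun w => h w trivial)
  obtain ⟨P', P₁, o1, i1, i2, n1, n2, hsup, hc, hc', h20⟩ := exists_split hB hg _ ⊤ (fun v _ => trivial) hTN rfl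
  by_cases h2 : (2 : F) = 0
  · have h3 := h20 h2
    rw [h3, sup_bot_eq] at hsup
    exact Or.inl (pw_of_c1 hXi hB hN hn he hnum hV hg (c1_top hsup hc))
  obtain ⟨a, ha⟩ : ∃ a, Module.finrank F P' = 2 * a := by
    obtain ⟨P, Q, k1, k2, k3, k4⟩ := hc
    exact ⟨_, finrank_lag hB n1 k1 k2 k3⟩
  obtain ⟨b, hb⟩ : ∃ b, Module.finrank F P₁ = 2 * b := by
    obtain ⟨P, Q, k1, k2, k3, k4⟩ := hc'
    exact ⟨_, finrank_lag hB n2 k1 k2 k3⟩
  have hab : a + b = n := by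
    have h3 := finrank_sup_of_orth hB o1 n1 le_rfl le_rfl
    rw [hsup, finrank_top, hV, ha, hb] at h3
    omega
  have m1 : Mix B g a 0 P' := mix_of_c1On hB n1 ha hc
  have m2 : Mix B g 0 b P₁ := by
    have := (mix_of_c1On hB n2 hb hc').ng
    rwa [ng_ng] at this
  have fin' : ∀ (h : V ≃ₗ[F] V) (a' b' : ℕ), Iso B h → a' + b' = n → Even b' → Mix B h a' b' ⊤ →
      Pw B p e h ∨ Pw B p e (ng h) := by
    intro h a' b' hh hab' hb' hm
    rcases Nat.eq_zero_or_pos a' with h0 | h0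
    · right
      subst h0
      refine pw_of_mix hE hXi h2 hB hN (a := b') (b := 0) (by omega) Even.zero (by omega) he ?_ (by omega) (ng_iso hh) hm.ng
      rw [add_zero, show b' = n by omega]
      exact hnum
    · left
      refine pw_of_mix hE hXi h2 hB hN h0 hb' (by omega) he ?_ (by omega) hh hm
      rw [hab']
      exact hnum
  have fin : ∀ (a' b' : ℕ), a' + b' = n → (Even a' ∨ Even b') → Mix B g a' b' ⊤ →
      Pw B p e g ∨ Pw B p e (ng g) := by
    rintro a' b' hab' (h | h) hm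
    · have := fin' (ng g) b' a' (ng_iso hg) (by omega) h hm.ng
      rw [ng_ng] at this
      exact this.symm
    · exact fin' g a' b' hg hab' h hm
  by_cases hev : Even a ∨ Even b
  · apply fin a b hab hev
    rw [← hsup]
    have := Mix.sup hB o1 n1 m1 m2
    rwa [add_zero, zero_add] at this
  push Not at hev
  rw [Nat.not_even_iff_odd, Nat.not_even_iff_odd] at hev
  obtain ⟨hoa, hob⟩ := hev
  by_cases hg1 : ∀ v ∈ P', g v = v
  swap
  · obtain ⟨c, rfl⟩ := hoa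
    have m3 := Mix.sup hB o1 n1 (hR h2 hB hg n1 i1 ha hc hg1) m2
    rw [hsup, add_zero] at m3
    exact fin _ _ (by omega) (Or.inl (even_two_mul c)) m3
  by_cases hg2 : ∀ v ∈ P₁, ng g v = v
  swap
  · obtain ⟨d, rfl⟩ := hob
    have m3 := (hR h2 hB (ng_iso hg) n2 (inv_ng i2) hb hc' hg2).ng
    rw [ng_ng] at m3
    have m4 := Mix.sup hB o1 n1 m1 m3
    rw [hsup, zero_add] at m4
    exact fin _ _ (by omega) (Or.inr (even_two_mul d)) m4
  have hg2' : ∀ v ∈ P₁, g v = -v := by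
    intro v hv
    have := hg2 v hv
    rw [ng_apply] at this
    rw [← this, neg_neg, this]
  have hen : Even n := by rw [← hab]; exact hoa.add_odd hob
  rcases le_total b a with hba | hba
  · left
    exact two_case hJ1 hJ2 hE hXi h2 hB hN he hnum (hnum' h2 hen) hg ha hb hab hoa hob hba n1 n2 o1 hsup hg1 hg2'
  · right
    refine two_case hJ1 hJ2 hE hXi h2 hB hN he hnum (hnum' h2 hen) (ng_iso hg) hb ha (by omega) hob hoa hba n2 n1
      (o1.symm hB) (by rw [sup_comm]; exact hsup) hg2 ?_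
    intro v hv
    rw [ng_apply, hg1 v hv]

end Cfsg.Agent.H144.War
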