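import Cfsg.Agent.H144.War.Xi
import Cfsg.Agent.H144.War.Boxes2

/-!
# The corner `diag(1_a, -1_b)`, `b` even, and the corner `1`
-/

set_option autoImplicit false
open Polynomial

noncomputable section

namespace Cfsg.Agent.H144.War

section

variable {F V M : Type*} [Field F] [AddCommGroup V] [Module F V] [AddCommGroup M] [Module F M]
  [FiniteDimensional F V] [FiniteDimensional F M]

theorem exists_conj_of_split {U₁ U₂ : Submodule F V} (hU : IsCompl U₁ U₂) {E₁ E₂ : Submodule F M}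
    (hE : IsCompl E₁ E₂) (h1 : Module.finrank F U₁ = Module.finrank F E₁)
    (h2 : Module.finrank F U₂ = Module.finrank F E₂) {A : V ≃ₗ[F] V} {A' : M ≃ₗ[F] M} {c₁ c₂ : F}
    (hA₁ : ∀ v ∈ U₁, A v = c₁ • v) (hA₂ : ∀ v ∈ U₂, A v = c₂ • v)
    (hA'₁ : ∀ v ∈ E₁, A' v = c₁ • v) (hA'₂ : ∀ v ∈ E₂, A' v = c₂ • v) :
    ∃ φ : V ≃ₗ[F] M, ∀ v, φ (A v) = A' (φ v) := by
  let e₁ : U₁ ≃ₗ[F] E₁ := LinearEquiv.ofFinrankEq _ _ h1
  let e₂ : U₂ ≃ₗ[F] E₂ := LinearEquiv.ofFinrankEq _ _ h2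
  let S := Submodule.prodEquivOfIsCompl U₁ U₂ hU
  let T := Submodule.prodEquivOfIsCompl E₁ E₂ hE
  have hS : ∀ (p : U₁) (q : U₂), S.symm (p + q) = (p, q) := by
    intro p q
    rw [S.symm_apply_eq]
    rfl
  let φ : V ≃ₗ[F] M := S.symm.trans ((e₁.prodCongr e₂).trans T)
  have hφ : ∀ (p : U₁) (q : U₂), φ (p + q) = e₁ p + e₂ q := by
    intro p q
    change T ((e₁.prodCongr e₂) (S.symm (p + q))) = _
    rw [hS]
    rfl
  refine ⟨φ, fun v => ?_⟩
  obtain ⟨p, hp, q, hq, rfl⟩ := mem_sup_top hU.sup_eq_top v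
  have h3 : A (p + q) = ((c₁ • (⟨p, hp⟩ : U₁) : U₁) : V) + ((c₂ • (⟨q, hq⟩ : U₂) : U₂) : V) := by
    rw [map_add, hA₁ p hp, hA₂ q hq]; rfl
  rw [h3, hφ]
  have h4 := hφ ⟨p, hp⟩ ⟨q, hq⟩
  simp only at h4
  rw [h4, map_add, hA'₁ _ (e₁ ⟨p, hp⟩).2, hA'₂ _ (e₂ ⟨q, hq⟩).2, map_smul, map_smul]
  rfl

omit [FiniteDimensional F V] in
/-- `A = ε` on `W` and `A = -ε` modulo `W` -/
theorem isCompl_of_mod (h2 : (2 : F) ≠ 0) {A : V ≃ₗ[F] V} {ε : F} (hε : ε * ε = 1) {W : Submodule F V}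
    (h1 : ∀ v ∈ W, A v = ε • v) (h3 : ∀ v, A v + ε • v ∈ W) :
    ∃ E : Submodule F V, IsCompl W E ∧ ∀ v ∈ E, A v = -ε • v := by
  let E : Submodule F V := LinearMap.ker ((A : V →ₗ[F] V) + ε • LinearMap.id)
  have hE : ∀ v, v ∈ E ↔ A v = -ε • v := by
    intro v
    rw [LinearMap.mem_ker, neg_smul, ← add_eq_zero_iff_eq_neg]
    rfl
  have hε0 : ε ≠ 0 := by rintro rfl; simp at hε
  have hAA : ∀ v, A (A v) = v := by
    intro v
    have h4 := h1 _ (h3 v)
    rw [map_add, map_smul, smul_add, smul_smul, hε, one_smul] at h4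
    have h5 : A (A v) + ε • A v = v + ε • A v := by rw [h4]; abel
    exact add_right_cancel h5
  refine ⟨E, ⟨?_, ?_⟩, fun v hv => (hE v).1 hv⟩
  · rw [Submodule.disjoint_def]
    intro v hv hv'
    have h4 := h1 v hv
    rw [(hE v).1 hv'] at h4
    have h5 : (2 * ε) • v = 0 := by
      rw [two_mul, add_smul]
      nth_rewrite 1 [← h4]
      rw [neg_smul, neg_add_cancel]
    exact (smul_eq_zero.1 h5).resolve_left (mul_ne_zero h2 hε0)
  · rw [codisjoint_iff, eq_top_iff]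
    intro v _
    have h4 : A v - ε • v ∈ E := by
      rw [hE, map_sub, map_smul, hAA, smul_sub, smul_smul, neg_mul, hε]
      module
    have h5 : v = (2 * ε)⁻¹ • (A v + ε • v) + (-(2 * ε)⁻¹) • (A v - ε • v) := by
      have h6 : (2 * ε)⁻¹ * ε * 2 = 1 := by
        field_simp
      have h7 : (2 * ε)⁻¹ • (A v + ε • v) + (-(2 * ε)⁻¹) • (A v - ε • v) = ((2 * ε)⁻¹ * ε * 2) • v := by
        module
      rw [h7, h6, one_smul]
    rw [h5]
    exact Submodule.add_mem_sup (W.smul_mem _ (h3 v)) (E.smul_mem _ h4)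

end

section

variable {F K : Type*} [Field F] [Field K] [Algebra F K]

/-- multiplication by `ξ` -/
def mu (F : Type*) {K : Type*} [Field F] [Field K] [Algebra F K] (ξ : K) (hξ : ξ ≠ 0) : K ≃ₗ[F] K :=
  LinearEquiv.ofLinearMap (LinearMap.mulLeft F ξ) (LinearMap.mulLeft F ξ⁻¹)
    (by ext v; simp [mul_inv_cancel_left₀ hξ]) (by ext v; simp [inv_mul_cancel_left₀ hξ])

theorem mu_apply (ξ : K) (hξ : ξ ≠ 0) (v : K) : mu F ξ hξ v = ξ * v := rfl

theorem aeval_mu (ξ : K) (hξ : ξ ≠ 0) : aeval ((mu F ξ hξ : K ≃ₗ[F] K) : Module.End F K) (minpoly F ξ) = 0 := by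
  ext v
  rw [aeval_smul ξ _ (fun v => mu_apply ξ hξ v), minpoly.aeval, zero_smul]
  rfl

end

variable {F V : Type} [Field F] [Finite F] [AddCommGroup V] [Module F V] [FiniteDimensional F V]

theorem fac_one (hXi : ExistsXi) {p e s : ℕ} [CharP F p] (hs : 2 ≤ s) (he : 1 ≤ e)
    (hnum : e * (Nat.card F ^ (s / 2) + 1) < Nat.card F ^ s - 1) (hV : Module.finrank F V = s) :
    Fac p e (1 : V ≃ₗ[F] V) := by
  obtain ⟨K, _, _, _, hK, ζ, hζ, hζN, hdeg, h1, h2⟩ := hXi F hs he hnum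
  have hep : EP p e (mu F (ζ ^ e) (pow_ne_zero e hζ)) :=
    ep_of_aeval' (by omega) (by omega) hK hζ hζN hdeg h1 h2 (aeval_mu _ _)
  let φ : V ≃ₗ[F] K := LinearEquiv.ofFinrankEq _ _ (by rw [hV, hK])
  exact Fac.conj ⟨_, _, hep, hep.inv, fun v => (app_inv _ v).symm⟩ φ (A := 1) (fun v => rfl)

theorem fac_mix (hE : MixCore) (hXi : ExistsXi) (h2 : (2 : F) ≠ 0) {p e a b : ℕ} [CharP F p] (ha : 1 ≤ a)
    (hb : Even b) (hab : 2 ≤ a + b) (he : 1 ≤ e)
    (hnum : e * (Nat.card F ^ ((a + b) / 2) + 1) < Nat.card F ^ (a + b) - 1) (hV : Module.finrank F V = a + b)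
    {U W : Submodule F V} (hU : Module.finrank F U = a) (hW : Module.finrank F W = b) (hUW : U ⊔ W = ⊤)
    {A : V ≃ₗ[F] V} (hA1 : ∀ v ∈ U, A v = v) (hA2 : ∀ v ∈ W, A v = -v) : Fac p e A := by
  have hcU : IsCompl U W := by
    refine ⟨?_, codisjoint_iff.2 hUW⟩
    rw [disjoint_iff, ← Submodule.finrank_eq_zero (R := F)]
    have h3 := Submodule.finrank_sup_add_finrank_inf_eq U W
    rw [hUW, finrank_top, hV, hU, hW] at h3
    omega
  rcases Nat.eq_zero_or_pos b with hb0 | hbpos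
  · subst hb0
    have hW0 : W = ⊥ := Submodule.finrank_eq_zero.1 hW
    rw [hW0, sup_bot_eq] at hUW
    have h3 : A = 1 := by
      ext v
      exact hA1 v (by rw [hUW]; trivial)
    rw [h3]
    exact fac_one hXi (by omega) he hnum hV
  obtain ⟨K, _, _, _, hK, ζ, hζ, hζN, hdeg, h1, h1'⟩ := hXi F hab he hnum
  have hξ := pow_ne_zero e hζ
  have hep : EP p e (mu F (ζ ^ e) hξ) :=
    ep_of_aeval' (by omega) (by omega) hK hζ hζN hdeg h1 h1' (aeval_mu _ _)
  have finE : ∀ {W' E : Submodule F K} {w : ℕ}, IsCompl W' E → Module.finrank F W' = w →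
      Module.finrank F E = a + b - w := by
    intro W' E w hc hw
    have := Submodule.finrank_add_eq_of_isCompl hc
    rw [hK, hw] at this
    omega
  have hmi : ∀ v : K, (mu F (ζ ^ e) hξ)⁻¹ v = (ζ ^ e)⁻¹ * v := fun v => rfl
  rcases Nat.lt_or_ge (a + 1) b with hlt | hge
  · -- `b > a + 1` : use `-A`
    set g := minpoly F (ζ ^ e) with hg
    have hgm : g.Monic := minpoly.monic (Algebra.IsIntegral.isIntegral (R := F) (ζ ^ e))
    obtain ⟨X, W', hXf, hW', hX1, hX2⟩ := hE (r := b) (c := a) ha (by omega) (by rw [hK]; ring) hξ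
      (by rw [← hg, hdeg]; ring) (f := (-1) ^ (a + b) * g.comp (-Polynomial.X))
      (by
        have := hgm.neg_one_pow_natDegree_mul_comp_neg_X
        rwa [hdeg] at this)
      (by
        have h3 : ((-1 : F[X]) ^ (a + b)) = C ((-1) ^ (a + b)) := by simp
        rw [h3, natDegree_C_mul (pow_ne_zero _ (neg_ne_zero.2 one_ne_zero)), natDegree_comp, natDegree_neg,
          natDegree_X, mul_one, hdeg, add_comm])
      (by
        have h3 : ((-1 : F[X]) ^ (a + b)) = C ((-1) ^ (a + b)) := by simp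
        rw [h3, coeff_C_mul, coeff_zero_eq_eval_zero, coeff_zero_eq_eval_zero, eval_comp, eval_neg, eval_X, neg_zero,
          pow_add, hb.neg_one_pow, mul_one])
    have hepX : EP p e (ng X) := by
      apply ep_of_aeval' (K := K) (by omega) (by omega) hK hζ hζN hdeg h1 h1'
      have h3 : ((ng X : K ≃ₗ[F] K) : Module.End F K) = aeval (X : Module.End F K) (-Polynomial.X : F[X]) := by
        rw [map_neg, aeval_X]
        ext v
        rfl
      rw [map_mul] at hXf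
      rw [h3, ← aeval_comp]
      have h4 : aeval (X : Module.End F K) ((-1 : F[X]) ^ (a + b)) * aeval (X : Module.End F K) ((-1 : F[X]) ^ (a + b))
          = 1 := by
        rw [← map_mul, ← mul_pow]
        simp
      calc aeval (X : Module.End F K) (g.comp (-Polynomial.X))
          = (aeval (X : Module.End F K) ((-1 : F[X]) ^ (a + b)) * aeval (X : Module.End F K) ((-1 : F[X]) ^ (a + b))) *
            aeval (X : Module.End F K) (g.comp (-Polynomial.X)) := by rw [h4, one_mul]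
        _ = 0 := by rw [mul_assoc, hXf, mul_zero]
    have hA' : ∀ v : K, (ng X * (mu F (ζ ^ e) hξ)⁻¹) v = - X ((ζ ^ e)⁻¹ * v) := fun v => rfl
    have k1 : ∀ v ∈ W', (ng X * (mu F (ζ ^ e) hξ)⁻¹) v = (-1 : F) • v := by
      intro v hv
      rw [hA', hX1 _ (by rw [mul_inv_cancel_left₀ hξ]; exact hv), mul_inv_cancel_left₀ hξ, neg_one_smul]
    have k2 : ∀ v, (ng X * (mu F (ζ ^ e) hξ)⁻¹) v + (-1 : F) • v ∈ W' := by
      intro v
      have h3 := W'.neg_mem (hX2 ((ζ ^ e)⁻¹ * v))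
      rw [mul_inv_cancel_left₀ hξ] at h3
      rw [hA', neg_one_smul, ← neg_add]
      exact h3
    obtain ⟨E, hcE, hEv⟩ := isCompl_of_mod h2 (by ring) k1 k2
    have hfE := finE hcE hW'
    obtain ⟨φ, hφ⟩ := exists_conj_of_split hcU hcE.symm (by rw [hU, hfE]; omega) (by rw [hW, hW']) (A := A) (c₁ := 1)
      (c₂ := -1) (fun v hv => by rw [one_smul, hA1 v hv]) (fun v hv => by rw [neg_one_smul, hA2 v hv])
      (fun v hv => by rw [hEv v hv, neg_neg]) k1
    exact Fac.conj ⟨_, _, hepX, hep.inv, fun v => rfl⟩ φ hφ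
  · obtain ⟨X, W', hXf, hW', hX1, hX2⟩ := hE (r := a) (c := b) hbpos (by omega) (by rw [hK]) hξ
      (by rw [hdeg]) (f := minpoly F (ζ ^ e))
      (minpoly.monic (Algebra.IsIntegral.isIntegral (R := F) (ζ ^ e))) hdeg (by rw [hb.neg_one_pow, one_mul])
    have hepX : EP p e X := ep_of_aeval' (K := K) (by omega) (by omega) hK hζ hζN hdeg h1 h1' hXf
    have hA' : ∀ v : K, (X * (mu F (ζ ^ e) hξ)⁻¹) v = X ((ζ ^ e)⁻¹ * v) := fun v => rfl
    have k1 : ∀ v ∈ W', (X * (mu F (ζ ^ e) hξ)⁻¹) v = (1 : F) • v := by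
      intro v hv
      rw [hA', hX1 _ (by rw [mul_inv_cancel_left₀ hξ]; exact hv), mul_inv_cancel_left₀ hξ, one_smul]
    have k2 : ∀ v, (X * (mu F (ζ ^ e) hξ)⁻¹) v + (1 : F) • v ∈ W' := by
      intro v
      have h3 := hX2 ((ζ ^ e)⁻¹ * v)
      rw [mul_inv_cancel_left₀ hξ] at h3
      rw [hA', one_smul]
      exact h3
    obtain ⟨E, hcE, hEv⟩ := isCompl_of_mod h2 (by ring) k1 k2
    have hfE := finE hcE hW'
    obtain ⟨φ, hφ⟩ := exists_conj_of_split hcU hcE (by rw [hU, hW']) (by rw [hW, hfE]; omega) (A := A) (c₁ := 1)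
      (c₂ := -1) (fun v hv => by rw [one_smul, hA1 v hv]) (fun v hv => by rw [neg_one_smul, hA2 v hv])
      k1 hEv
    exact Fac.conj ⟨_, _, hepX, hep.inv, fun v => rfl⟩ φ hφ

end Cfsg.Agent.H144.War
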