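import Cfsg.Agent.H144.War.Split
import Cfsg.Agent.H144.War.Mix

/-!
# The engine for mixed corners, orthogonal sums
-/

set_option autoImplicit false
open Polynomial

noncomputable section

namespace Cfsg.Agent.H144.War

section

variable {F V : Type*} [Field F] [AddCommGroup V] [Module F V]

theorem Mix.ng {B : LinearMap.BilinForm F V} {g : V ≃ₗ[F] V} {a b : ℕ} {R : Submodule F V} (h : Mix B g a b R) :
    Mix B (ng g) b a R := by
  obtain ⟨U, W, Q, h1, h2, h3, h4, h5, h6, h7⟩ := h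
  refine ⟨W, U, Q, ?_, h2, ?_, h5, h4, fun v hv => ?_, fun v hv => ?_⟩
  · rw [sup_comm]; exact h1
  · rw [sup_comm W U]; exact h3
  · have := Q.neg_mem (h7 v hv)
    rwa [neg_add, ← sub_eq_add_neg] at this
  · have := Q.neg_mem (h6 v hv)
    rw [ng_apply]
    rwa [neg_sub, sub_eq_neg_add] at this

variable [FiniteDimensional F V]

theorem Mix.sup {B : LinearMap.BilinForm F V} (hB : Alt B) {g : V ≃ₗ[F] V} {a b a' b' : ℕ} {R S : Submodule F V}
    (hRS : Orth B R S) (hR : Nd B R) (h : Mix B g a b R) (h' : Mix B g a' b' S) : Mix B g (a + a') (b + b') (R ⊔ S) := by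
  obtain ⟨U, W, Q, h1, h2, h3, h4, h5, h6, h7⟩ := h
  obtain ⟨U', W', Q', h1', h2', h3', h4', h5', h6', h7'⟩ := h'
  have hUWR : U ⊔ W ≤ R := by rw [← h3]; exact le_sup_left
  have hQR : Q ≤ R := by rw [← h3]; exact le_sup_right
  have hUWS : U' ⊔ W' ≤ S := by rw [← h3']; exact le_sup_left
  have hQS : Q' ≤ S := by rw [← h3']; exact le_sup_right
  refine ⟨U ⊔ U', W ⊔ W', Q ⊔ Q', ?_, ?_, ?_, ?_, ?_, ?_, ?_⟩
  · rw [sup_sup_sup_comm]
    exact isotropic_sup hB h1 h1' (fun x hx y hy => hRS x (hUWR hx) y (hUWS hy))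
  · exact isotropic_sup hB h2 h2' (fun x hx y hy => hRS x (hQR hx) y (hQS hy))
  · rw [← h3, ← h3', sup_sup_sup_comm U, sup_sup_sup_comm (U ⊔ W)]
  · rw [finrank_sup_of_orth hB hRS hR (le_sup_left.trans hUWR) (le_sup_left.trans hUWS), h4, h4']
  · rw [finrank_sup_of_orth hB hRS hR (le_sup_right.trans hUWR) (le_sup_right.trans hUWS), h5, h5']
  · intro v hv
    obtain ⟨x, hx, y, hy, rfl⟩ := Submodule.mem_sup.1 hv
    have : g (x + y) - (x + y) = (g x - x) + (g y - y) := by rw [map_add]; abel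
    rw [this]
    exact Submodule.add_mem_sup (h6 x hx) (h6' y hy)
  · intro v hv
    obtain ⟨x, hx, y, hy, rfl⟩ := Submodule.mem_sup.1 hv
    have : g (x + y) + (x + y) = (g x + x) + (g y + y) := by rw [map_add]; abel
    rw [this]
    exact Submodule.add_mem_sup (h7 x hx) (h7' y hy)

theorem mix_of_c1On {B : LinearMap.BilinForm F V} (hB : Alt B) {g : V ≃ₗ[F] V} {a : ℕ} {R : Submodule F V} (hR : Nd B R)
    (ha : Module.finrank F R = 2 * a) (h : C1On B g R) : Mix B g a 0 R := by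
  obtain ⟨P, Q, h1, h2, h3, h4⟩ := h
  have h5 := finrank_lag hB hR h1 h2 h3
  refine ⟨P, ⊥, Q, by rw [sup_bot_eq]; exact h1, h2, by rw [sup_bot_eq]; exact h3, by omega, finrank_bot F V, h4, ?_⟩
  intro v hv
  rw [Submodule.mem_bot] at hv
  rw [hv, map_zero, add_zero]
  exact Q.zero_mem

theorem mix_restrict {B : LinearMap.BilinForm F V} {g : V ≃ₗ[F] V} {a b : ℕ} {R : Submodule F V} (hI : Inv g R)
    (h : Mix B g a b R) : Mix (B.restrict R) (gr g R hI) a b ⊤ := by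
  obtain ⟨U, W, Q, h1, h2, h3, h4, h5, h6, h7⟩ := h
  have hUWR : U ⊔ W ≤ R := by rw [← h3]; exact le_sup_left
  have hUR : U ≤ R := le_sup_left.trans hUWR
  have hWR : W ≤ R := le_sup_right.trans hUWR
  have hQR : Q ≤ R := by rw [← h3]; exact le_sup_right
  have hle : U.comap R.subtype ⊔ W.comap R.subtype ≤ (U ⊔ W).comap R.subtype :=
    sup_le (Submodule.comap_mono le_sup_left) (Submodule.comap_mono le_sup_right)
  refine ⟨U.comap R.subtype, W.comap R.subtype, Q.comap R.subtype, fun x hx y hy => h1 x (hle hx) y (hle hy),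
    fun x hx y hy => h2 x hx y hy, ?_, ?_, ?_, fun v hv => h6 v hv, fun v hv => h7 v hv⟩
  · rw [eq_top_iff]
    intro v _
    have hv : (v : V) ∈ U ⊔ W ⊔ Q := by rw [h3]; exact v.2
    obtain ⟨x, hx, q, hq, hxq⟩ := Submodule.mem_sup.1 hv
    obtain ⟨u, hu, w, hw, huw⟩ := Submodule.mem_sup.1 hx
    have e1 : v = (⟨u, hUR hu⟩ : R) + ⟨w, hWR hw⟩ + ⟨q, hQR hq⟩ := Subtype.ext (by
      change (v : V) = u + w + q
      rw [huw, hxq])
    rw [e1]
    exact Submodule.add_mem_sup (Submodule.add_mem_sup hu hw) hq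
  · rw [(Submodule.comapSubtypeEquivOfLe hUR).finrank_eq, h4]
  · rw [(Submodule.comapSubtypeEquivOfLe hWR).finrank_eq, h5]

/-! ### orthogonal sums -/

theorem prodCongr_pow {M N : Type*} [AddCommGroup M] [Module F M] [AddCommGroup N] [Module F N] (x : M ≃ₗ[F] M)
    (y : N ≃ₗ[F] N) (k : ℕ) : (x.prodCongr y) ^ k = (x ^ k).prodCongr (y ^ k) := by
  induction k with
  | zero => ext v <;> simp
  | succ k ih =>
    rw [pow_succ, ih, pow_succ, pow_succ]
    ext v <;> simp [LinearEquiv.mul_apply]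

/-- the direct sum of two automorphisms -/
def ds {R S : Submodule F V} (h : IsCompl R S) (x : R ≃ₗ[F] R) (y : S ≃ₗ[F] S) : V ≃ₗ[F] V :=
  tr (Submodule.prodEquivOfIsCompl R S h).symm (x.prodCongr y)

theorem ds_apply {R S : Submodule F V} (h : IsCompl R S) (x : R ≃ₗ[F] R) (y : S ≃ₗ[F] S) (r : R) (s : S) :
    ds h x y (r + s) = x r + y s := by
  have hE : ∀ (p : R) (q : S), (Submodule.prodEquivOfIsCompl R S h).symm (p + q) = (p, q) := by
    intro p q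
    rw [LinearEquiv.symm_apply_eq]
    rfl
  rw [ds, tr_apply, hE]
  rfl

theorem ds_pow {R S : Submodule F V} (h : IsCompl R S) (x : R ≃ₗ[F] R) (y : S ≃ₗ[F] S) (k : ℕ) :
    ds h x y ^ k = ds h (x ^ k) (y ^ k) := by
  rw [ds, ← tr_pow, prodCongr_pow]
  rfl

theorem ds_one {R S : Submodule F V} (h : IsCompl R S) : ds h 1 1 = 1 := by
  ext v
  obtain ⟨r, hr, s, hs, rfl⟩ := mem_sup_top h.sup_eq_top v
  have := ds_apply h 1 1 ⟨r, hr⟩ ⟨s, hs⟩
  simpa using this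

theorem ds_iso {B : LinearMap.BilinForm F V} (hB : Alt B) {R S : Submodule F V} (h : IsCompl R S)
    (hRS : Orth B R S) {x : R ≃ₗ[F] R} {y : S ≃ₗ[F] S} (hx : Iso (B.restrict R) x) (hy : Iso (B.restrict S) y) :
    Iso B (ds h x y) := by
  intro v w
  obtain ⟨p, hp, q, hq, rfl⟩ := mem_sup_top h.sup_eq_top v
  obtain ⟨p', hp', q', hq', rfl⟩ := mem_sup_top h.sup_eq_top w
  have h1 := ds_apply h x y ⟨p, hp⟩ ⟨q, hq⟩
  have h2 := ds_apply h x y ⟨p', hp'⟩ ⟨q', hq'⟩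
  simp only at h1 h2
  rw [h1, h2]
  simp only [map_add, LinearMap.add_apply]
  have h3 : B (x ⟨p, hp⟩ : V) (x ⟨p', hp'⟩ : V) = B p p' := hx ⟨p, hp⟩ ⟨p', hp'⟩
  have h4 : B (y ⟨q, hq⟩ : V) (y ⟨q', hq'⟩ : V) = B q q' := hy ⟨q, hq⟩ ⟨q', hq'⟩
  rw [hRS _ (x ⟨p, hp⟩).2 _ (y ⟨q', hq'⟩).2, hB.zero (hRS _ (x ⟨p', hp'⟩).2 _ (y ⟨q, hq⟩).2), hRS p hp q' hq',
    hB.zero (hRS p' hp' q hq), h3, h4]

theorem pw_sup {B : LinearMap.BilinForm F V} (hB : Alt B) {R S : Submodule F V} (hRS : Orth B R S) (hR : Nd B R)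
    (htop : R ⊔ S = ⊤) {p e : ℕ} {g : V ≃ₗ[F] V} (hIR : Inv g R) (hIS : Inv g S)
    (h : Pw (B.restrict R) p e (gr g R hIR)) (h' : Pw (B.restrict S) p e (gr g S hIS)) : Pw B p e g := by
  have hc : IsCompl R S := ⟨disjoint_of_orth hB hRS hR, codisjoint_iff.2 htop⟩
  obtain ⟨x, y, N, hx, hy, hN, hxN, hyN, hxy⟩ := h
  obtain ⟨x', y', N', hx', hy', hN', hxN', hyN', hxy'⟩ := h'
  refine ⟨ds hc x x', ds hc y y', N * N', ds_iso hB hc hRS hx hx', ds_iso hB hc hRS hy hy', Nat.Coprime.mul_left hN hN',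
    ?_, ?_, ?_⟩
  · rw [ds_pow, pow_mul, hxN, one_pow, mul_comm, pow_mul, hxN', one_pow, ds_one]
  · rw [ds_pow, pow_mul, hyN, one_pow, mul_comm, pow_mul, hyN', one_pow, ds_one]
  · ext v
    obtain ⟨r, hr, s, hs, rfl⟩ := mem_sup_top hc.sup_eq_top v
    rw [ds_pow, ds_pow, LinearEquiv.mul_apply]
    have h1 := ds_apply hc (y ^ e) (y' ^ e) ⟨r, hr⟩ ⟨s, hs⟩
    simp only at h1
    rw [h1, ds_apply, map_add]
    have h2 := congrArg (fun t : R ≃ₗ[F] R => (t ⟨r, hr⟩ : V)) hxy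
    have h3 := congrArg (fun t : S ≃ₗ[F] S => (t ⟨s, hs⟩ : V)) hxy'
    simp only [LinearEquiv.mul_apply] at h2 h3
    rw [← h2, ← h3]
    rfl

end

/-! ### the engine -/

variable {F V : Type} [Field F] [Finite F] [AddCommGroup V] [Module F V] [FiniteDimensional F V]

theorem pw_of_c1 (hXi : ExistsXi) {B : LinearMap.BilinForm F V} (hB : Alt B) (hN : Nond B) {p e s : ℕ} [CharP F p]
    (hs : 2 ≤ s) (he : 1 ≤ e) (hnum : e * (Nat.card F ^ (s / 2) + 1) < Nat.card F ^ s - 1)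
    (hV : Module.finrank F V = 2 * s) {g : V ≃ₗ[F] V} (hg : Iso B g) (h : C1 B g) : Pw B p e g := by
  obtain ⟨P, Q, hP, hQ, hPQ, hPg⟩ := h
  have h2 := finrank_two hB hN hP hQ hPQ
  exact pw_of_corner hB hN hP hQ hPQ (A := 1) (fac_one hXi hs he hnum (by omega)) hg (fun v => hPg v v.2)

theorem pw_of_mix (hE : MixCore) (hXi : ExistsXi) (h2 : (2 : F) ≠ 0) {B : LinearMap.BilinForm F V} (hB : Alt B)
    (hN : Nond B) {p e a b : ℕ} [CharP F p] (ha : 1 ≤ a) (hb : Even b) (hab : 2 ≤ a + b) (he : 1 ≤ e)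
    (hnum : e * (Nat.card F ^ ((a + b) / 2) + 1) < Nat.card F ^ (a + b) - 1)
    (hV : Module.finrank F V = 2 * (a + b)) {g : V ≃ₗ[F] V} (hg : Iso B g) (h : Mix B g a b ⊤) : Pw B p e g := by
  obtain ⟨U, W, Q, h1, h3, h4, h5, h6, h7, h8⟩ := h
  have h9 := finrank_two hB hN h1 h3 h4
  have hle : ∀ v : ↥(U ⊔ W), v ∈ U.comap (U ⊔ W).subtype ⊔ W.comap (U ⊔ W).subtype := by
    intro v
    obtain ⟨u, hu, w, hw, huw⟩ := Submodule.mem_sup.1 v.2
    have e1 : v = (⟨u, Submodule.mem_sup_left hu⟩ : ↥(U ⊔ W)) + ⟨w, Submodule.mem_sup_right hw⟩ := Subtype.ext huw.symm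
    rw [e1]
    exact Submodule.add_mem_sup hu hw
  have hU : Module.finrank F (U.comap (U ⊔ W).subtype) = a := by
    rw [(Submodule.comapSubtypeEquivOfLe le_sup_left).finrank_eq, h5]
  have hW : Module.finrank F (W.comap (U ⊔ W).subtype) = b := by
    rw [(Submodule.comapSubtypeEquivOfLe le_sup_right).finrank_eq, h6]
  have htop : U.comap (U ⊔ W).subtype ⊔ W.comap (U ⊔ W).subtype = ⊤ := eq_top_iff.2 (fun v _ => hle v)
  have hP : Module.finrank F ↥(U ⊔ W) = a + b := by omega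
  have hc : IsCompl (U.comap (U ⊔ W).subtype) (W.comap (U ⊔ W).subtype) := by
    refine ⟨?_, codisjoint_iff.2 htop⟩
    rw [disjoint_iff, ← Submodule.finrank_eq_zero (R := F)]
    have h3 := Submodule.finrank_sup_add_finrank_inf_eq (U.comap (U ⊔ W).subtype) (W.comap (U ⊔ W).subtype)
    rw [htop, finrank_top, hP, hU, hW] at h3
    omega
  let A : ↥(U ⊔ W) ≃ₗ[F] ↥(U ⊔ W) := ds hc 1 (LinearEquiv.neg F)
  have hA1 : ∀ v ∈ U.comap (U ⊔ W).subtype, A v = v := by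
    intro v hv
    have := ds_apply hc 1 (LinearEquiv.neg F) ⟨v, hv⟩ 0
    simpa using this
  have hA2 : ∀ v ∈ W.comap (U ⊔ W).subtype, A v = -v := by
    intro v hv
    have := ds_apply hc 1 (LinearEquiv.neg F) 0 ⟨v, hv⟩
    simpa using this
  refine pw_of_corner hB hN h1 h3 h4 (A := A) (fac_mix hE hXi h2 ha hb hab he hnum hP hU hW htop hA1 hA2) hg ?_
  intro v
  obtain ⟨u, hu, w, hw, rfl⟩ := Submodule.mem_sup.1 (hle v)
  rw [map_add, hA1 u hu, hA2 w hw]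
  have e1 : g ((u + w : ↥(U ⊔ W)) : V) - ((u + -w : ↥(U ⊔ W)) : V) = (g u - u) + (g w + w) := by
    push_cast
    rw [map_add]
    abel
  rw [e1]
  exact Q.add_mem (h7 u hu) (h8 w hw)

end Cfsg.Agent.H144.War
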