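import Cfsg.Agent.H144.War.Boxes

/-!
# Splitting `V = V' ⊥ V₁` with corners `1` and `-1`
-/

set_option autoImplicit false
open Polynomial

noncomputable section

namespace Cfsg.Agent.H144.War

variable {F V : Type*} [Field F] [AddCommGroup V] [Module F V]

theorem ng_ng (g : V ≃ₗ[F] V) : ng (ng g) = g := by
  ext v
  rw [ng_apply, ng_apply, neg_neg]

theorem inv_ng {g : V ≃ₗ[F] V} {P : Submodule F V} (h : Inv g P) : Inv (ng g) P := fun v hv => by
  rw [ng_apply]
  exact P.neg_mem (h v hv)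

theorem orth_bot (B : LinearMap.BilinForm F V) (P : Submodule F V) : Orth B P ⊥ := by
  intro x _ y hy
  rw [Submodule.mem_bot] at hy
  rw [hy, map_zero]

theorem disjoint_of_orth {B : LinearMap.BilinForm F V} (hB : Alt B) {R S : Submodule F V} (hRS : Orth B R S)
    (hR : Nd B R) : Disjoint R S := by
  rw [Submodule.disjoint_def]
  intro v hv hv'
  exact hR v hv (fun w hw => hB.zero (hRS w hw v hv'))

section FD

variable [FiniteDimensional F V]

theorem finrank_sup_of_orth {B : LinearMap.BilinForm F V} (hB : Alt B) {R S U U' : Submodule F V} (hRS : Orth B R S)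
    (hR : Nd B R) (hU : U ≤ R) (hU' : U' ≤ S) :
    Module.finrank F (U ⊔ U' : Submodule F V) = Module.finrank F U + Module.finrank F U' := by
  have h1 := Submodule.finrank_sup_add_finrank_inf_eq U U'
  have h2 : U ⊓ U' = ⊥ := by
    rw [eq_bot_iff]
    intro v hv
    exact ((Submodule.disjoint_def.1 (disjoint_of_orth hB hRS hR)) v (hU hv.1) (hU' hv.2) : v = 0)
  rw [h2, finrank_bot, add_zero] at h1
  exact h1

/-- a nondegenerate `R ≤ P` splits off -/
theorem split_off {B : LinearMap.BilinForm F V} (hB : Alt B) {P Q : Submodule F V} (hQP : Q ≤ P) (hQN : Nd B Q)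
    (hPN : Nd B P) : ∃ R : Submodule F V, R ≤ P ∧ Orth B Q R ∧ Q ⊔ R = P ∧ Nd B R ∧
      Module.finrank F Q + Module.finrank F R = Module.finrank F P ∧ R = P ⊓ perp B Q := by
  set R := P ⊓ perp B Q with hR
  have hQR : Q ⊔ R = P := by
    apply le_antisymm (sup_le hQP inf_le_left)
    intro v hv
    have h1 : v ∈ Q ⊔ perp B Q := by rw [sup_perp hB hQN]; trivial
    obtain ⟨a, ha, b, hb, rfl⟩ := Submodule.mem_sup.1 h1
    refine Submodule.add_mem_sup ha ⟨?_, hb⟩
    have := P.sub_mem hv (hQP ha)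
    simpa using this
  have hQRo : Orth B Q R := fun x hx y hy => hy.2 x hx
  have hRN : Nd B R := by
    intro v hv h0
    apply hPN v hv.1
    intro w hw
    rw [← hQR] at hw
    obtain ⟨a, ha, b, hb, rfl⟩ := Submodule.mem_sup.1 hw
    rw [map_add, h0 b hb, hB.zero (hQRo a ha v hv), add_zero]
  refine ⟨R, inf_le_left, hQRo, hQR, hRN, ?_, rfl⟩
  rw [← finrank_sup_of_orth hB hQRo hQN le_rfl le_rfl, hQR]

/-- the dimension of a Lagrangian -/
theorem finrank_lag {B : LinearMap.BilinForm F V} (hB : Alt B) {P Q R : Submodule F V} (hR : Nd B R)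
    (hP : Orth B P P) (hQ : Orth B Q Q) (hPQ : P ⊔ Q = R) : Module.finrank F R = 2 * Module.finrank F P := by
  have hPR : P ≤ R := by rw [← hPQ]; exact le_sup_left
  have hQR : Q ≤ R := by rw [← hPQ]; exact le_sup_right
  have h1 := finrank_two (restrict_alt hB R) (restrict_nond hR) (P := P.comap R.subtype) (Q := Q.comap R.subtype)
    (fun x hx y hy => hP x hx y hy) (fun x hx y hy => hQ x hx y hy) (by
      rw [eq_top_iff]
      intro v _
      have hv : (v : V) ∈ P ⊔ Q := by rw [hPQ]; exact v.2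
      obtain ⟨a, ha, b, hb, hab⟩ := Submodule.mem_sup.1 hv
      rw [Submodule.mem_sup]
      exact ⟨⟨a, hPR ha⟩, ha, ⟨b, hQR hb⟩, hb, Subtype.ext hab⟩)
  rw [h1, (Submodule.comapSubtypeEquivOfLe hPR).finrank_eq]

theorem exists_split [Finite F] {B : LinearMap.BilinForm F V} (hB : Alt B) {g : V ≃ₗ[F] V}
    (hg : Iso B g) (n : ℕ) : ∀ P : Submodule F V, Inv g P → Nd B P → Module.finrank F P = n →
    ∃ P' P₁ : Submodule F V, Orth B P' P₁ ∧ Inv g P' ∧ Inv g P₁ ∧ Nd B P' ∧ Nd B P₁ ∧ P' ⊔ P₁ = P ∧ C1On B g P' ∧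
      C1On B (ng g) P₁ ∧ ((2 : F) = 0 → P₁ = ⊥) := by
  induction n using Nat.strong_induction_on with
  | _ n ih =>
  intro P hPI hPN hn
  rcases Nat.eq_zero_or_pos n with h0 | hpos
  · rw [h0] at hn
    have hbot : P = ⊥ := Submodule.finrank_eq_zero.1 hn
    subst hbot
    exact ⟨⊥, ⊥, orth_bot B _, Inv.bot g, Inv.bot g, Nd.bot B, Nd.bot B, by simp, C1On.bot B g, C1On.bot B _,
      fun _ => rfl⟩
  · -- a minimal nonzero invariant nondegenerate subspace
    classical
    have hex : ∃ k, ∃ Q : Submodule F V, Q ≤ P ∧ Q ≠ ⊥ ∧ Inv g Q ∧ Nd B Q ∧ Module.finrank F Q = k :=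
      ⟨n, P, le_rfl, by
        rintro rfl
        rw [finrank_bot] at hn
        omega, hPI, hPN, hn⟩
    obtain ⟨Q, hQP, hQ0, hQI, hQN, hQk⟩ := Nat.find_spec hex
    have hmin : ∀ Q' : Submodule F V, Q' ≤ P → Q' ≠ ⊥ → Inv g Q' → Nd B Q' →
        Module.finrank F Q ≤ Module.finrank F Q' := by
      intro Q' h1 h2 h3 h4
      rw [hQk]
      exact Nat.find_min' hex ⟨Q', h1, h2, h3, h4, rfl⟩
    have hQnt : Nontrivial Q := Submodule.nontrivial_iff_ne_bot.2 hQ0
    have hIndec : Indec (B.restrict Q) (gr g Q hQI) := by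
      intro R hRI hRN
      by_cases hR : R = ⊥
      · exact Or.inl hR
      right
      have h1 : Module.finrank F (R.map Q.subtype) = Module.finrank F R :=
        (Submodule.equivMapOfInjective Q.subtype Q.injective_subtype R).finrank_eq.symm
      have h2 := hmin (R.map Q.subtype) ((Submodule.map_subtype_le Q R).trans hQP) (by
        intro h0
        apply hR
        rw [h0, finrank_bot] at h1
        exact Submodule.finrank_eq_zero.1 h1.symm) (by
        rintro _ ⟨x, hx, rfl⟩
        exact ⟨_, hRI x hx, rfl⟩) (by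
        rintro _ ⟨x, hx, rfl⟩ h0
        have := hRN x hx (fun w hw => h0 w ⟨w, hw, rfl⟩)
        rw [this]; rfl)
      rw [h1] at h2
      exact Submodule.eq_top_of_finrank_eq (le_antisymm (Submodule.finrank_le R) h2)
    have hpiece := indec_main (restrict_alt hB Q) (restrict_nond hQN) (gr_iso hg Q hQI) hIndec
    obtain ⟨R, hRP, hQRo, hQR, hRN, hfin, hRdef⟩ := split_off hB hQP hQN hPN
    have hRI : Inv g R := by
      rw [hRdef]
      intro v hv
      refine ⟨hPI v hv.1, fun w hw => ?_⟩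
      rw [hg.adj']
      exact hv.2 _ (inv_mem_of_mem hQI w hw)
    have hQpos : 0 < Module.finrank F Q := Module.finrank_pos
    obtain ⟨P', P₁, o1, i1, i2, n1, n2, hsup, hc, hc', h20⟩ :=
      ih (Module.finrank F R) (by omega) R hRI hRN rfl
    have hP'R : P' ≤ R := by rw [← hsup]; exact le_sup_left
    have hP₁R : P₁ ≤ R := by rw [← hsup]; exact le_sup_right
    have oQ : ∀ {T : Submodule F V}, T ≤ R → Orth B Q T := fun hT x hx y hy => hQRo x hx y (hT hy)
    rcases hpiece with hC | ⟨h2, hE⟩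
    · refine ⟨Q ⊔ P', P₁, orth_sup (oQ hP₁R) o1, Inv.sup hQI i1, i2,
        Nd.sup hB (oQ hP'R) hQN n1, n2, ?_, C1On.sup hB (oQ hP'R) (c1On_of_c1 hQI hC) hc, hc', h20⟩
      rw [sup_assoc, hsup, hQR]
    · have hCQ : C1On B (ng g) Q := by
        apply c1On_of_c1 (inv_ng hQI)
        have : gr (ng g) Q (inv_ng hQI) = ng (gr g Q hQI) := by
          ext w
          rfl
        rw [this]
        exact hE.1
      refine ⟨P', Q ⊔ P₁, orth_sup' ((oQ hP'R).symm hB) o1, i1, Inv.sup hQI i2, n1,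
        Nd.sup hB (oQ hP₁R) hQN n2, ?_, hc, C1On.sup hB (oQ hP₁R) hCQ hc', fun h => absurd h h2⟩
      rw [← sup_assoc, sup_comm P' Q, sup_assoc, hsup, hQR]

/-- Lagrangian decompositions -/
theorem exists_lag [Finite F] {B : LinearMap.BilinForm F V} (hB : Alt B) {R : Submodule F V} (hR : Nd B R)
    {g : V ≃ₗ[F] V} (hg : Iso B g) (h : ∀ v ∈ R, g v = v) : C1On B g R := by
  obtain ⟨P', P₁, o1, i1, i2, n1, n2, hsup, hc, hc', h20⟩ := exists_split hB hg _ R
    (fun v hv => by rw [h v hv]; exact hv) hR rfl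
  have h0 : P₁ = ⊥ := by
    by_cases h2 : (2 : F) = 0
    · exact h20 h2
    obtain ⟨W, W', k1, k2, k3, k4⟩ := hc'
    have hWP : W ≤ P₁ := by rw [← k3]; exact le_sup_left
    have hPR : P₁ ≤ R := by rw [← hsup]; exact le_sup_right
    have hWW : W ≤ W' := by
      intro v hv
      have h3 := k4 v hv
      rw [ng_apply, h v (hPR (hWP hv))] at h3
      have h4 : v = (-(2 : F)⁻¹) • (-v - v) := by
        have : (-(2 : F)⁻¹) • (-v - v) = ((2 : F)⁻¹ * 2) • v := by module
        rw [this, inv_mul_cancel₀ h2, one_smul]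
      rw [h4]
      exact W'.smul_mem _ h3
    rw [sup_eq_right.2 hWW] at k3
    rw [eq_bot_iff]
    intro v hv
    exact n2 v hv (fun w hw => by rw [← k3] at hv hw; exact k2 v hv w hw)
  rw [h0, sup_bot_eq] at hsup
  rw [← hsup]
  exact hc

/-- a nondegenerate subspace of dimension `2 k` -/
theorem exists_sub {B : LinearMap.BilinForm F V} (hB : Alt B) {R : Submodule F V} (hR : Nd B R) {n : ℕ}
    (hn : Module.finrank F R = 2 * n) (k : ℕ) (hk : k ≤ n) : ∃ R₁ : Submodule F V, R₁ ≤ R ∧ Nd B R₁ ∧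
      Module.finrank F R₁ = 2 * k := by
  induction k with
  | zero => exact ⟨⊥, bot_le, Nd.bot B, by simp⟩
  | succ k ih =>
    obtain ⟨R₁, h1, h2, h3⟩ := ih (by omega)
    obtain ⟨R₂, h4, h5, h6, h7, h8, -⟩ := split_off hB h1 h2 hR
    have hR2 : R₂ ≠ ⊥ := by
      rintro rfl
      rw [finrank_bot] at h8
      omega
    obtain ⟨e, he, he0⟩ := Submodule.exists_mem_ne_zero_of_ne_bot hR2
    obtain ⟨f, hf, hef⟩ : ∃ f ∈ R₂, B e f ≠ 0 := by
      by_contra hcon
      push Not at hcon
      exact he0 (h7 e he hcon)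
    set H := Submodule.span F {e} ⊔ Submodule.span F {f} with hH
    have hHR : H ≤ R₂ := sup_le ((Submodule.span_singleton_le_iff_mem _ _).2 he)
      ((Submodule.span_singleton_le_iff_mem _ _).2 hf)
    have hfe : B f e ≠ 0 := by rw [hB.neg]; exact neg_ne_zero.2 hef
    have hHN : Nd B H := by
      intro v hv h0
      obtain ⟨x, hx, y, hy, rfl⟩ := Submodule.mem_sup.1 hv
      obtain ⟨a, rfl⟩ := Submodule.mem_span_singleton.1 hx
      obtain ⟨b, rfl⟩ := Submodule.mem_span_singleton.1 hy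
      have k1 := h0 e (Submodule.mem_sup_left (Submodule.mem_span_singleton_self _))
      have k2 := h0 f (Submodule.mem_sup_right (Submodule.mem_span_singleton_self _))
      simp only [map_add, map_smul, LinearMap.add_apply, LinearMap.smul_apply, hB e, hB f, smul_eq_mul, mul_zero,
        zero_add, add_zero, mul_eq_zero] at k1 k2
      rw [k1.resolve_right hfe, k2.resolve_right hef, zero_smul, zero_smul, add_zero]
    have hH2 : Module.finrank F H = 2 := by
      have h9 := Submodule.finrank_sup_add_finrank_inf_eq (Submodule.span F {e}) (Submodule.span F {f})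
      have hf0 : f ≠ 0 := by rintro rfl; simp at hef
      have h10 : Submodule.span F {e} ⊓ Submodule.span F {f} = ⊥ := by
        rw [eq_bot_iff]
        rintro v ⟨hv1, hv2⟩
        obtain ⟨a, rfl⟩ := Submodule.mem_span_singleton.1 hv1
        obtain ⟨b, hb⟩ := Submodule.mem_span_singleton.1 hv2
        have h11 : B (b • f) f = 0 := by rw [map_smul, LinearMap.smul_apply, hB f, smul_zero]
        rw [hb, map_smul, LinearMap.smul_apply, smul_eq_mul, mul_eq_zero] at h11
        rw [Submodule.mem_bot, h11.resolve_right hef, zero_smul]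
      rw [h10, finrank_bot, finrank_span_singleton he0, finrank_span_singleton hf0, ← hH] at h9
      omega
    have hRH : Orth B R₁ H := fun x hx y hy => h5 x hx y (hHR hy)
    refine ⟨R₁ ⊔ H, sup_le h1 (hHR.trans h4), Nd.sup hB hRH h2 hHN, ?_⟩
    rw [finrank_sup_of_orth hB hRH h2 le_rfl le_rfl, h3, hH2]
    ring

end FD

end Cfsg.Agent.H144.War
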