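import Cfsg.Agent.H144.War.Engine

/-!
# Elements killed by the minimal polynomial of `ξ = ζ ^ e`
-/

set_option autoImplicit false
open Polynomial

noncomputable section

namespace Cfsg.Agent.H144.War

variable {F V : Type*} [Field F] [AddCommGroup V] [Module F V]

section

variable {K : Type*} [Field K] [Algebra F K]

theorem aeval_eq_zero_of_root {ξ : K} {X : Module.End F V} (hX : aeval X (minpoly F ξ) = 0) {r : F[X]}
    (hr : aeval ξ r = 0) : aeval X r = 0 := by
  obtain ⟨t, rfl⟩ := minpoly.dvd F ξ hr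
  rw [map_mul, hX, zero_mul]

theorem injective_of_not_root [FiniteDimensional F K] {ξ : K} {X : Module.End F V}
    (hX : aeval X (minpoly F ξ) = 0) {r : F[X]}
    (hr : aeval ξ r ≠ 0) (v : V) (hv : aeval X r v = 0) : v = 0 := by
  have hirr := minpoly.irreducible (Algebra.IsIntegral.isIntegral (R := F) ξ)
  have hcop : IsCoprime (minpoly F ξ) r := by
    rw [hirr.coprime_iff_not_dvd]
    rintro ⟨t, rfl⟩
    apply hr
    rw [map_mul, minpoly.aeval, zero_mul]
  obtain ⟨a, b, hab⟩ := hcop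
  have h1 : aeval X (a * minpoly F ξ + b * r) v = v := by rw [hab]; simp
  rw [map_add, map_mul, map_mul, hX, mul_zero, zero_add, Module.End.mul_apply, hv, map_zero] at h1
  exact h1.symm

theorem exists_poly [FiniteDimensional F K] {ξ : K} (h : (minpoly F ξ).natDegree = Module.finrank F K) (y : K) :
    ∃ r : F[X], aeval ξ r = y := by
  rcases Nat.eq_zero_or_pos (minpoly F ξ).natDegree with h0 | hpos
  · have := minpoly.natDegree_pos (Algebra.IsIntegral.isIntegral (R := F) ξ)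
    omega
  have hli : LinearIndependent F (fun i : Fin (minpoly F ξ).natDegree => ξ ^ (i : ℕ)) :=
    linearIndependent_pow ξ
  have hspan := hli.span_eq_top_of_card_eq_finrank' (by rw [Fintype.card_fin, h])
  have hy : y ∈ Submodule.span F (Set.range (fun i : Fin (minpoly F ξ).natDegree => ξ ^ (i : ℕ))) := by
    rw [hspan]; trivial
  refine Submodule.span_induction (p := fun y _ => ∃ r : F[X], aeval ξ r = y) ?_ ?_ ?_ ?_ hy
  · rintro _ ⟨i, rfl⟩
    exact ⟨X ^ (i : ℕ), by simp⟩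
  · exact ⟨0, by simp⟩
  · rintro _ _ _ _ ⟨r, rfl⟩ ⟨t, rfl⟩
    exact ⟨r + t, by simp⟩
  · rintro c _ _ ⟨r, rfl⟩
    exact ⟨C c * r, by rw [map_mul, aeval_C, Algebra.smul_def]⟩

/-- a unit of the endomorphism ring from a power -/
def ofPow (d : Module.End F V) (N : ℕ) (hN : 0 < N) (hd : d ^ N = 1) : V ≃ₗ[F] V :=
  LinearEquiv.ofLinearMap d (d ^ (N - 1))
    (by
      have : d * d ^ (N - 1) = 1 := by rw [← pow_succ', Nat.sub_add_cancel hN, hd]
      exact this)
    (by
      have : d ^ (N - 1) * d = 1 := by rw [← pow_succ, Nat.sub_add_cancel hN, hd]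
      exact this)

theorem ofPow_pow (d : Module.End F V) (N : ℕ) (hN : 0 < N) (hd : d ^ N = 1) (k : ℕ) (v : V) :
    ((ofPow d N hN hd) ^ k) v = (d ^ k) v := by
  induction k generalizing v with
  | zero => simp
  | succ k ih => rw [pow_succ, LinearEquiv.mul_apply, pow_succ, Module.End.mul_apply, ih]; rfl

theorem sing_of_aeval [FiniteDimensional F K] {ξ : K} (hξ : ξ ≠ 0)
    (hdeg : (minpoly F ξ).natDegree = Module.finrank F K) (h1 : aeval ξ⁻¹ (minpoly F ξ) ≠ 0)
    (h2 : aeval ξ (minpoly F ξ⁻¹) ≠ 0) {X : V ≃ₗ[F] V} (hX : aeval (X : Module.End F V) (minpoly F ξ) = 0) :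
    Sing X (minpoly F ξ) (minpoly F ξ⁻¹) := by
  obtain ⟨r, hr⟩ := exists_poly hdeg ξ⁻¹
  have hXi : ((X⁻¹ : V ≃ₗ[F] V) : Module.End F V) = aeval (X : Module.End F V) r := by
    have h3 : aeval (X : Module.End F V) (Polynomial.X * r - 1) = 0 := by
      apply aeval_eq_zero_of_root hX
      rw [map_sub, map_mul, aeval_X, hr, map_one, mul_inv_cancel₀ hξ, sub_self]
    rw [map_sub, map_mul, aeval_X, map_one, sub_eq_zero] at h3
    ext v
    have h4 := LinearMap.congr_fun h3 v
    rw [Module.End.mul_apply, Module.End.one_apply] at h4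
    change X⁻¹ v = _
    nth_rewrite 1 [← h4]
    exact inv_app X _
  have hcomp : ∀ f : F[X], aeval ((X⁻¹ : V ≃ₗ[F] V) : Module.End F V) f = aeval (X : Module.End F V) (f.comp r) := by
    intro f
    rw [hXi, aeval_comp]
  have hev : ∀ f : F[X], aeval ξ (f.comp r) = aeval ξ⁻¹ f := by
    intro f
    rw [aeval_comp, hr]
  refine ⟨fun v => by rw [hX]; rfl, fun v hv => ?_, fun v => ?_, fun v hv => injective_of_not_root hX h2 v hv⟩
  · rw [hcomp] at hv
    exact injective_of_not_root hX (by rw [hev]; exact h1) v hv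
  · rw [hcomp, aeval_eq_zero_of_root hX (by rw [hev]; exact minpoly.aeval F _)]
    rfl

theorem ep_of_aeval [FiniteDimensional F K] {ζ : K} (hζ : ζ ≠ 0) {p e N : ℕ} (hN : 0 < N) (hNp : N.Coprime p)
    (hζN : ζ ^ N = 1)
    (hdeg : (minpoly F (ζ ^ e)).natDegree = Module.finrank F K) (h1 : aeval (ζ ^ e)⁻¹ (minpoly F (ζ ^ e)) ≠ 0)
    (h2 : aeval (ζ ^ e) (minpoly F (ζ ^ e)⁻¹) ≠ 0) {X : V ≃ₗ[F] V}
    (hX : aeval (X : Module.End F V) (minpoly F (ζ ^ e)) = 0) : EP p e X := by
  obtain ⟨r, hr⟩ := exists_poly hdeg ζ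
  have hrN : (aeval (X : Module.End F V) r) ^ N = 1 := by
    have h3 : aeval (X : Module.End F V) (r ^ N - 1) = 0 := by
      apply aeval_eq_zero_of_root hX
      rw [map_sub, map_pow, hr, hζN, map_one, sub_self]
    rw [map_sub, map_pow, map_one, sub_eq_zero] at h3
    exact h3
  have hre : (aeval (X : Module.End F V) r) ^ e = (X : Module.End F V) := by
    have h3 : aeval (X : Module.End F V) (r ^ e - Polynomial.X) = 0 := by
      apply aeval_eq_zero_of_root hX
      rw [map_sub, map_pow, hr, aeval_X, sub_self]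
    rw [map_sub, map_pow, aeval_X, sub_eq_zero] at h3
    exact h3
  refine ⟨⟨ofPow _ N hN hrN, N, hNp, ?_, ?_⟩, _, _, sing_of_aeval (pow_ne_zero e hζ) hdeg h1 h2 hX⟩
  · ext v
    rw [ofPow_pow, hrN]
    rfl
  · ext v
    rw [ofPow_pow, hre]
    rfl

end

theorem coprime_card_pow_sub_one [Finite F] {p : ℕ} [hp : CharP F p] {s : ℕ} (hs : s ≠ 0) :
    (Nat.card F ^ s - 1).Coprime p := by
  have hpp : p.Prime := (CharP.char_is_prime_or_zero F p).resolve_right (by
    have := CharP.char_ne_zero_of_finite F p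
    exact this)
  have : Fintype F := Fintype.ofFinite F
  obtain ⟨n, -, hn⟩ := FiniteField.card F p
  rw [Nat.coprime_comm, hpp.coprime_iff_not_dvd]
  intro hd
  have h1 : p ∣ Nat.card F ^ s := by
    rw [Nat.card_eq_fintype_card, hn, ← pow_mul]
    exact dvd_pow_self p (mul_ne_zero n.pos.ne' hs)
  have h2 : 1 ≤ Nat.card F ^ s := Nat.one_le_pow _ _ Nat.card_pos
  have h3 : p ∣ 1 := by
    have := Nat.dvd_sub h1 hd
    rwa [Nat.sub_sub_self h2] at this
  exact hpp.one_lt.ne' (Nat.dvd_one.1 h3)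

/-- **the form to be used** : `ζ` as in `ExistsXi` -/
theorem ep_of_aeval' [Finite F] {p e s : ℕ} [CharP F p] (hs : s ≠ 0) (hq : 1 < Nat.card F ^ s)
    {K : Type*} [Field K] [Algebra F K] [FiniteDimensional F K] (hK : Module.finrank F K = s) {ζ : K} (hζ : ζ ≠ 0)
    (hζN : ζ ^ (Nat.card F ^ s - 1) = 1) (hdeg : (minpoly F (ζ ^ e)).natDegree = s)
    (h1 : aeval (ζ ^ e)⁻¹ (minpoly F (ζ ^ e)) ≠ 0) (h2 : aeval (ζ ^ e) (minpoly F (ζ ^ e)⁻¹) ≠ 0) {X : V ≃ₗ[F] V}
    (hX : aeval (X : Module.End F V) (minpoly F (ζ ^ e)) = 0) : EP p e X :=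
  ep_of_aeval hζ (by omega) (coprime_card_pow_sub_one hs) hζN (by rw [hdeg, hK]) h1 h2 hX

end Cfsg.Agent.H144.War
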